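import Mathlib.RingTheory.AdicCompletion.Completeness
import Mathlib.RingTheory.AdicCompletion.RingHom
import Mathlib.RingTheory.AdicCompletion.Algebra

/-! Completions of `R`-algebras along an ideal `I` of `R`: completeness, density, universal
property among `I`-adically complete algebras. -/

universe u v w

namespace Groth.Agent.Lib.RigH7

variable {R : Type u} [CommRing R] {I : Ideal R} {C : Type v} [CommRing C] [Algebra R C]

theorem map_completion (I : Ideal R) :
    I.map (algebraMap R (AdicCompletion (I.map (algebraMap R C)) C)) =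
      (I.map (algebraMap R C)).map (algebraMap C (AdicCompletion (I.map (algebraMap R C)) C)) := by
  rw [Ideal.map_map, ← IsScalarTower.algebraMap_eq]

theorem isAdicComplete_completion_of_fg {J : Ideal C} (hJ : J.FG) :
    IsAdicComplete (J.map (algebraMap C (AdicCompletion J C))) (AdicCompletion J C) := by
  haveI := AdicCompletion.isAdicComplete (I := J) (M := C) hJ
  rw [isAdicComplete_iff, IsHausdorff.map_algebraMap_iff, IsPrecomplete.map_algebraMap_iff]
  exact (isAdicComplete_iff J _).mp inferInstance

theorem isAdicComplete_completion (hI : I.FG) :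
    IsAdicComplete (I.map (algebraMap R (AdicCompletion (I.map (algebraMap R C)) C)))
      (AdicCompletion (I.map (algebraMap R C)) C) := by
  rw [map_completion]
  exact isAdicComplete_completion_of_fg (hI.map _)

/-- An element of the completion differs from an element of `C` by an element of `I ^ n`. -/
theorem exists_sub_mem (hI : I.FG) (x : AdicCompletion (I.map (algebraMap R C)) C) (n : ℕ) :
    ∃ c : C, x - algebraMap C _ c ∈
      (I.map (algebraMap R (AdicCompletion (I.map (algebraMap R C)) C))) ^ n := by
  obtain ⟨c, hc⟩ := Submodule.Quotient.mk_surjective _ (x.val n)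
  refine ⟨c, ?_⟩
  have h1 : AdicCompletion.eval (I.map (algebraMap R C)) C n (x - AdicCompletion.of (I.map (algebraMap R C)) C c) = 0 := by
    rw [map_sub, AdicCompletion.eval_of]
    exact sub_eq_zero.mpr hc.symm
  have h2 : x - AdicCompletion.of (I.map (algebraMap R C)) C c ∈
      ((I.map (algebraMap R C)) ^ n • ⊤ : Submodule C (AdicCompletion (I.map (algebraMap R C)) C)) := by
    rw [AdicCompletion.pow_smul_top_eq_ker_eval (hI.map _)]
    exact h1
  rw [Ideal.smul_top_eq_map, Submodule.restrictScalars_mem, Ideal.map_pow] at h2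
  rw [map_completion]
  exact h2

variable {B : Type w} [CommRing B] [Algebra R B] [IsAdicComplete (I.map (algebraMap R B)) B]

theorem map_pow_le (g : C →ₐ[R] B) (n : ℕ) :
    (I.map (algebraMap R C)) ^ n ≤ Ideal.comap g ((I.map (algebraMap R B)) ^ n) := by
  rw [← Ideal.map_le_iff_le_comap, Ideal.map_pow]
  refine le_of_eq (congr_arg (· ^ n) ?_)
  rw [← g.comp_algebraMap, ← Ideal.map_map]
  rfl

theorem exists_lift (g : C →ₐ[R] B) :
    ∃ G : AdicCompletion (I.map (algebraMap R C)) C →ₐ[R] B,
      ∀ c, G (algebraMap C _ c) = g c := by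
  set J := I.map (algebraMap R C)
  set K := I.map (algebraMap R B)
  let f : (n : ℕ) → AdicCompletion J C →ₐ[R] B ⧸ K ^ n := fun n =>
    (Ideal.quotientMapₐ (I := J ^ n) (K ^ n) g (map_pow_le g n)).comp
      ((AdicCompletion.evalₐ J n).restrictScalars R)
  have hf : ∀ {m n : ℕ} (hle : m ≤ n),
      (Ideal.Quotient.factorₐ R (Ideal.pow_le_pow_right hle)).comp (f n) = f m := by
    intro m n hle
    ext x
    induction x using AdicCompletion.induction_on with
    | _ a =>
      simp only [f, AlgHom.coe_comp, AlgHom.coe_restrictScalars', Function.comp_apply,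
        AdicCompletion.evalₐ_mk, Ideal.quotient_map_mkₐ, Ideal.Quotient.mkₐ_eq_mk,
        Ideal.Quotient.factorₐ_apply_mk]
      rw [Ideal.Quotient.eq, ← map_sub]
      exact map_pow_le g m (Ideal.Quotient.eq.mp (AdicCompletion.Ideal.mk_eq_mk J hle a))
  refine ⟨IsAdicComplete.liftAlgHom K f hf, fun c => ?_⟩
  have : ∀ n, Ideal.Quotient.mk (K ^ n) (IsAdicComplete.liftAlgHom K f hf (algebraMap C _ c)) =
      Ideal.Quotient.mk (K ^ n) (g c) := by
    intro n
    rw [IsAdicComplete.mk_liftAlgHom K f hf n]
    simp only [f, AlgHom.coe_comp, AlgHom.coe_restrictScalars', Function.comp_apply,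
      AlgHom.commutes]
    rfl
  exact (IsHausdorff.eq_iff_smodEq (I := K)).mpr fun n => by
    rw [SModEq.sub_mem, smul_eq_mul, Ideal.mul_top]
    exact Ideal.Quotient.eq.mp (this n)

theorem hom_ext (hI : I.FG) {G G' : AdicCompletion (I.map (algebraMap R C)) C →ₐ[R] B}
    (h : ∀ c, G (algebraMap C _ c) = G' (algebraMap C _ c)) : G = G' := by
  ext x
  rw [IsHausdorff.eq_iff_smodEq (I := I.map (algebraMap R B))]
  intro n
  obtain ⟨c, hc⟩ := exists_sub_mem hI x n
  rw [SModEq.sub_mem, smul_eq_mul, Ideal.mul_top,
    show G x - G' x = G (x - algebraMap C _ c) - G' (x - algebraMap C _ c) by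
      rw [map_sub, map_sub, h c]; ring]
  have hm : ∀ H : AdicCompletion (I.map (algebraMap R C)) C →ₐ[R] B, H (x - algebraMap C _ c) ∈
      (I.map (algebraMap R B)) ^ n := fun H => map_pow_le H n hc
  exact sub_mem (hm G) (hm G')

end Groth.Agent.Lib.RigH7
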