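import Groth.Agent.Lib.RigH7.Basic

/-! Facts about a complete valuation ring of height one and Krull dimension of integral
extensions of it. -/

universe u v

namespace Groth.Agent.Lib.RigH7

variable {R : Type u} [CommRing R] [IsDomain R] [ValuationRing R] [Ring.KrullDimLE 1 R] {t : R}

theorem isBase_of (ht : t ≠ 0) [IsAdicComplete (Ideal.span {t}) R] :
    AdicRing.IsBase R (Ideal.span {t}) :=
  ⟨inferInstance, Or.inr ⟨inferInstance, inferInstance, inferInstance, t, ht, rfl⟩⟩

theorem exists_dvd_pow' (ht : ¬ IsUnit t) {r : R} (hr : r ≠ 0) : ∃ k : ℕ, r ∣ t ^ k := by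
  suffices t ∈ (Ideal.span {r}).radical by
    obtain ⟨k, hk⟩ := this
    exact ⟨k, Ideal.mem_span_singleton.mp hk⟩
  rw [Ideal.radical_eq_sInf, Ideal.mem_sInf]
  rintro q ⟨hrq, hq⟩
  have hq0 : q ≠ ⊥ := fun e => hr (by simpa [e] using hrq (Ideal.mem_span_singleton_self r))
  rw [IsLocalRing.eq_maximalIdeal (hq.isMaximal_of_ne_bot hq0)]
  exact ht

theorem exists_pow_dvd (ht : t ≠ 0) {c : R} (hc : ¬ IsUnit c) : ∃ k : ℕ, t ∣ c ^ k := by
  suffices c ∈ (Ideal.span {t}).radical by
    obtain ⟨k, hk⟩ := this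
    exact ⟨k, Ideal.mem_span_singleton.mp hk⟩
  rw [Ideal.radical_eq_sInf, Ideal.mem_sInf]
  rintro q ⟨htq, hq⟩
  have hq0 : q ≠ ⊥ := fun e => ht (by simpa [e] using htq (Ideal.mem_span_singleton_self t))
  rw [IsLocalRing.eq_maximalIdeal (hq.isMaximal_of_ne_bot hq0)]
  exact hc

theorem exists_common_dvd (S : Finset R) (hS : ∀ r ∈ S, ¬ IsUnit r) :
    ∃ c : R, ¬ IsUnit c ∧ ∀ r ∈ S, c ∣ r := by
  classical
  induction S using Finset.induction with
  | empty => exact ⟨0, not_isUnit_zero, by simp⟩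
  | @insert a S ha ih =>
    obtain ⟨c, hc, hdvd⟩ := ih fun r hr => hS r (Finset.mem_insert_of_mem hr)
    obtain ⟨e, h | h⟩ := PreValuationRing.cond a c
    · refine ⟨a, hS a (Finset.mem_insert_self _ _), fun r hr => ?_⟩
      rcases Finset.mem_insert.mp hr with rfl | hr
      · exact dvd_rfl
      · exact (Dvd.intro e h).trans (hdvd r hr)
    · refine ⟨c, hc, fun r hr => ?_⟩
      rcases Finset.mem_insert.mp hr with rfl | hr
      · exact Dvd.intro e h
      · exact hdvd r hr

theorem exists_nonunit_smul {A : Type v} [CommRing A] [Algebra R A] {x : A}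
    (hx : x ∈ (IsLocalRing.maximalIdeal R).map (algebraMap R A)) :
    ∃ r : R, ¬ IsUnit r ∧ ∃ y, x = r • y := by
  induction hx using Submodule.span_induction with
  | mem x hx =>
    obtain ⟨r, hr, rfl⟩ := hx
    exact ⟨r, hr, 1, by rw [Algebra.smul_def, mul_one]⟩
  | zero => exact ⟨0, not_isUnit_zero, 0, by simp⟩
  | add x y _ _ hx hy =>
    classical
    obtain ⟨r, hr, a, rfl⟩ := hx
    obtain ⟨s, hs, b, rfl⟩ := hy
    obtain ⟨c, hc, hdvd⟩ := exists_common_dvd ({r, s} : Finset R) (by simp [hr, hs])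
    obtain ⟨r', rfl⟩ := hdvd r (by simp)
    obtain ⟨s', rfl⟩ := hdvd s (by simp)
    exact ⟨c, hc, r' • a + s' • b, by rw [smul_add, mul_smul, mul_smul]⟩
  | smul z x _ hx =>
    obtain ⟨r, hr, a, rfl⟩ := hx
    exact ⟨r, hr, z * a, by rw [smul_eq_mul, mul_smul_comm]⟩

/-- A domain integral over `R`, containing it, has dimension one. -/
theorem ringKrullDim_eq_one_of_isIntegral (ht : t ≠ 0) (htu : ¬ IsUnit t)
    (B : Type v) [CommRing B] [IsDomain B] [Algebra R B] [Algebra.IsIntegral R B] [FaithfulSMul R B] :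
    ringKrullDim B = 1 := by
  have hinj := FaithfulSMul.algebraMap_injective R B
  have h1 : Ring.KrullDimLE 1 B := Ring.KrullDimLE.mk₁' fun P hP hPp => by
    haveI := hPp
    have h0 : P.comap (algebraMap R B) ≠ ⊥ := fun h => hP (Ideal.eq_bot_of_comap_eq_bot h)
    haveI := (Ideal.comap_isPrime (algebraMap R B) P).isMaximal_of_ne_bot h0
    exact Ideal.isMaximal_of_isIntegral_of_isMaximal_comap P this
  have h2 : ¬ Ring.KrullDimLE 0 B := fun h => by
    have hB : IsField B := Ring.KrullDimLE.isField_of_isDomain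
    have hR : IsField R := isField_of_isIntegral_of_isField hinj hB
    exact htu ⟨⟨t, Classical.choose (hR.mul_inv_cancel ht),
      Classical.choose_spec (hR.mul_inv_cancel ht),
      by rw [mul_comm]; exact Classical.choose_spec (hR.mul_inv_cancel ht)⟩, rfl⟩
  rw [Ring.krullDimLE_iff] at h1 h2
  refine le_antisymm h1 ?_
  revert h2
  generalize ringKrullDim B = d
  intro h2
  induction d with
  | bot => exact absurd bot_le h2
  | coe d =>
    have : d ≠ 0 := fun h => h2 (by simp [h])
    exact_mod_cast ENat.one_le_iff_ne_zero.mpr this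

end Groth.Agent.Lib.RigH7
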