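import Groth.Agent.Lib.RigH7.Glue
import Groth.Agent.Lib.RigH7.VBase

/-! Finite algebras over algebras topologically of finite type, and the generic fibre. -/

universe u

open TensorProduct

namespace Groth.Agent.Lib.RigH7

variable {R : Type u} [CommRing R] {I : Ideal R} {A : Type u} [CommRing A] [Algebra R A]

theorem topFiniteType_of_finite (hR : AdicRing.IsBase R I) (hA : AdicRing.TopFiniteType R I A)
    (B : Type u) [CommRing B] [Algebra R B] [Algebra A B] [IsScalarTower R A B] [Module.Finite A B] :
    AdicRing.TopFiniteType R I B := by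
  have hI := fg_of_isBase hR
  haveI : IsAdicComplete (I.map (algebraMap R B)) B := by
    haveI := isAdicComplete_of_topFiniteType hR hA B
    exact (isAdicComplete_iff _ B).mpr
      ⟨(IsHausdorff.map_algebraMap_iff (S := B)).mpr inferInstance,
        (IsPrecomplete.map_algebraMap_iff (S := B)).mpr inferInstance⟩
  let q : AdicRing.trunc A I 0 →+* AdicRing.trunc B I 0 :=
    Ideal.quotientMap ((I ^ (0 + 1)).map (algebraMap R B)) (algebraMap A B)
      (Ideal.map_le_iff_le_comap.mp (by rw [Ideal.map_map, ← IsScalarTower.algebraMap_eq]))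
  letI := q.toAlgebra
  haveI : IsScalarTower A (AdicRing.trunc A I 0) (AdicRing.trunc B I 0) :=
    IsScalarTower.of_algebraMap_eq fun a => rfl
  haveI : IsScalarTower R (AdicRing.trunc A I 0) (AdicRing.trunc B I 0) :=
    IsScalarTower.of_algebraMap_eq fun r =>
      (congrArg (Ideal.Quotient.mk ((I ^ (0 + 1)).map (algebraMap R B))) (IsScalarTower.algebraMap_apply R A B r) :)
  haveI : Algebra.FiniteType A (AdicRing.trunc B I 0) :=
    Algebra.FiniteType.of_surjective (A := B) (Ideal.Quotient.mkₐ A _) Ideal.Quotient.mk_surjective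
  haveI : Algebra.FiniteType (AdicRing.trunc A I 0) (AdicRing.trunc B I 0) :=
    Algebra.FiniteType.of_restrictScalars_finiteType A _ _
  haveI : Algebra.FiniteType R (AdicRing.trunc B I 0) :=
    Algebra.FiniteType.trans (S := AdicRing.trunc A I 0) (finiteType_trunc_zero hI hA) inferInstance
  exact topFiniteType_of_finiteType_trunc hI

variable [IsDomain R] {t : R}

theorem smul_injective_of_noPowTorsion [ValuationRing R] [Ring.KrullDimLE 1 R] (htu : ¬ IsUnit t)
    {M : Type u} [AddCommGroup M] [Module R M] (hM : AdicRing.NoPowTorsion (Ideal.span {t}) M)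
    {c : R} (hc : c ≠ 0) : Function.Injective fun m : M => c • m := by
  intro a b h
  obtain ⟨k, d, hd⟩ := exists_dvd_pow' htu hc
  refine sub_eq_zero.mp (hM _ k fun r hr => ?_)
  rw [Ideal.span_singleton_pow, Ideal.mem_span_singleton] at hr
  obtain ⟨e, rfl⟩ := hr
  have h' : c • (a - b) = 0 := by rw [smul_sub]; exact sub_eq_zero.mpr h
  rw [hd, mul_assoc, mul_comm c, mul_smul, h', smul_zero]

theorem isUnit_smul_genericFibre {c : R} (hc : c ≠ 0) :
    IsUnit (algebraMap R (A ⊗[R] FractionRing R) c) := by
  have := (isUnit_iff_ne_zero.mpr ((map_ne_zero_iff _ (IsFractionRing.injective R (FractionRing R))).mpr hc)).map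
    (Algebra.TensorProduct.includeRight : FractionRing R →ₐ[R] A ⊗[R] FractionRing R)
  rwa [AlgHom.commutes] at this

theorem smul_injective_genericFibre {c : R} (hc : c ≠ 0) :
    Function.Injective fun x : A ⊗[R] FractionRing R => c • x := by
  intro a b h
  have h' : c • a = c • b := h
  exact (isUnit_smul_genericFibre hc).mul_right_injective
    ((Algebra.smul_def c a).symm.trans (h'.trans (Algebra.smul_def c b)))

theorem includeLeft_injective [ValuationRing R] [Ring.KrullDimLE 1 R] (htu : ¬ IsUnit t)
    (hA : AdicRing.NoPowTorsion (Ideal.span {t}) A) :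
    Function.Injective (algebraMap A (A ⊗[R] FractionRing R)) := by
  haveI : IsLocalization (Algebra.algebraMapSubmonoid A (nonZeroDivisors R)) (A ⊗[R] FractionRing R) :=
    IsLocalization.tensor _ _
  intro a b h
  obtain ⟨⟨_, r, hr, rfl⟩, he⟩ :=
    (IsLocalization.eq_iff_exists (Algebra.algebraMapSubmonoid A (nonZeroDivisors R)) _).mp h
  refine smul_injective_of_noPowTorsion htu hA (nonZeroDivisors.ne_zero hr) ?_
  simpa [Algebra.smul_def] using he

end Groth.Agent.Lib.RigH7
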