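import Groth.Prelude.Def_W4bk4boschfrg79
import Mathlib.RingTheory.Finiteness.Ideal

universe u

namespace Groth.Agent.Lib.RigH7

theorem fg_of_isBase {R : Type u} [CommRing R] {I : Ideal R} (hR : AdicRing.IsBase R I) : I.FG := by
  rcases hR.2 with ⟨hn, -⟩ | ⟨-, -, -, t, -, rfl⟩
  · exact (isNoetherianRing_iff_ideal_fg R).mp hn I
  · exact ⟨{t}, by simp⟩

end Groth.Agent.Lib.RigH7
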