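import Groth.Agent.Lib.RigH7.Good

/-! Finite presentation, coherence and flatness over an admitted base. -/

universe u
open TensorProduct

namespace Groth.Agent.Lib.RigH7

variable {R : Type u} [CommRing R] {I : Ideal R}

theorem finitePresentation_of_torsionFree {A : Type u} [CommRing A] [Algebra R A]
    (hg : Good I A) {M : Type u} [AddCommGroup M] [Module A M] [Module.Finite A M]
    (htf : ∀ t : R, I = Ideal.span {t} → ¬ IsNoetherianRing A → ∀ x : M, algebraMap R A t • x = 0 → x = 0) :
    Module.FinitePresentation A M := by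
  by_cases hN : IsNoetherianRing A
  · exact Module.finitePresentation_of_finite A M
  obtain ⟨t, hIt, h⟩ := hg.resolve_left hN
  obtain ⟨n, p, hp⟩ := Module.Finite.exists_fin' A M
  refine Module.finitePresentation_of_surjective p hp (h.fg fun x hx => ?_)
  rw [LinearMap.mem_ker, map_smul] at hx
  exact htf t hIt hN _ hx

theorem topFinitePresentation_of_noPowTorsion (hR : AdicRing.IsBase R I) {A : Type u} [CommRing A]
    [Algebra R A] (hA : AdicRing.TopFiniteType R I A) (hT : AdicRing.NoPowTorsion I A) :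
    AdicRing.TopFinitePresentation R I A := by
  obtain ⟨n, φ, hφ⟩ := hA
  refine ⟨n, φ, hφ, ?_⟩
  letI : Module R (AdicRing.RPow R I n) := Algebra.toModule
  refine ((good_rPow hR n).1).fg_of_saturated (M := AdicRing.RPow R I n)
    (RingHom.ker φ.toRingHom) fun x k hx => ?_
  rw [RingHom.mem_ker]
  refine hT _ k fun a ha => ?_
  have := hx a ha
  rw [RingHom.mem_ker, AlgHom.toRingHom_eq_coe, RingHom.coe_coe, map_smul] at this
  exact this

/-- No torsion in `R⟨ζ⟩` in class (V). -/
theorem smul_eq_zero_rPow [IsDomain R] {t : R} (ht : t ≠ 0) (n : ℕ)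
    (x : AdicRing.RPow R (Ideal.span {t}) n)
    (hx : algebraMap R (AdicRing.RPow R (Ideal.span {t}) n) t * x = 0) : x = 0 := by
  haveI := isAdicComplete_rPow (Submodule.fg_span_singleton t) n
  have hJ : ∀ k, ((Ideal.span {t}).map (MvPolynomial.C : R →+* MvPolynomial (Fin n) R)) ^ k = Ideal.span {(MvPolynomial.C t : MvPolynomial (Fin n) R) ^ k} := fun k => by
    rw [map_span_singleton', Ideal.span_singleton_pow]
  apply AdicCompletion.ext_evalₐ
  intro k
  obtain ⟨c, hc⟩ := Ideal.Quotient.mk_surjective (AdicCompletion.evalₐ ((Ideal.span {t}).map (MvPolynomial.C : R →+* MvPolynomial (Fin n) R)) (k + 1) x)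
  have h1 : Ideal.Quotient.mk (((Ideal.span {t}).map (MvPolynomial.C : R →+* MvPolynomial (Fin n) R)) ^ (k + 1)) (MvPolynomial.C t * c) = 0 := by
    have := congr_arg (AdicCompletion.evalₐ ((Ideal.span {t}).map (MvPolynomial.C : R →+* MvPolynomial (Fin n) R)) (k + 1)) hx
    rw [map_mul, map_zero, AdicCompletion.algebraMap_apply, AdicCompletion.evalₐ_of, ← hc] at this
    rw [map_mul]
    exact this
  rw [Ideal.Quotient.eq_zero_iff_mem, hJ, Ideal.mem_span_singleton] at h1
  obtain ⟨d, hd⟩ := h1
  have hCt : (MvPolynomial.C t : MvPolynomial (Fin n) R) ≠ 0 := by simpa using ht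
  have hcd : c = MvPolynomial.C t ^ k * d := mul_left_cancel₀ hCt (by rw [hd]; ring)
  rw [map_zero]
  have hfac : ∀ y : AdicCompletion ((Ideal.span {t}).map (MvPolynomial.C : R →+* MvPolynomial (Fin n) R)) (MvPolynomial (Fin n) R),
      Ideal.Quotient.factor (Ideal.pow_le_pow_right (Nat.le_succ k)) (AdicCompletion.evalₐ ((Ideal.span {t}).map (MvPolynomial.C : R →+* MvPolynomial (Fin n) R)) (k + 1) y) =
        AdicCompletion.evalₐ ((Ideal.span {t}).map (MvPolynomial.C : R →+* MvPolynomial (Fin n) R)) k y := by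
    intro y
    apply AdicCompletion.induction_on ((Ideal.span {t}).map (MvPolynomial.C : R →+* MvPolynomial (Fin n) R)) _ y
    intro a
    rw [AdicCompletion.evalₐ_mk, AdicCompletion.evalₐ_mk, Ideal.Quotient.factor_mk]
    exact AdicCompletion.Ideal.mk_eq_mk ((Ideal.span {t}).map (MvPolynomial.C : R →+* MvPolynomial (Fin n) R)) (Nat.le_succ k) a
  rw [← hfac x, ← hc, Ideal.Quotient.factor_mk, Ideal.Quotient.eq_zero_iff_mem, hJ,
    Ideal.mem_span_singleton]
  exact ⟨d, hcd⟩

theorem pow_smul_eq_zero_rPow [IsDomain R] {t : R} (ht : t ≠ 0) (n : ℕ) (k : ℕ)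
    (x : AdicRing.RPow R (Ideal.span {t}) n) (hx : t ^ k • x = 0) : x = 0 := by
  induction k generalizing x with
  | zero => simpa using hx
  | succ k ih =>
    refine ih x (smul_eq_zero_rPow ht n _ ?_)
    rw [← Algebra.smul_def, smul_smul, ← pow_succ']
    exact hx

theorem flat_rPow (hR : AdicRing.IsBase R I) (n : ℕ) : Module.Flat R (AdicRing.RPow R I n) := by
  rcases hR.2 with ⟨hN, -⟩ | ⟨hD, hP, hK, t, ht, rfl⟩
  · haveI := hN
    exact Module.Flat.trans R (MvPolynomial (Fin n) R) (AdicRing.RPow R I n)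
  · haveI := hD; haveI := hP; haveI := hK; haveI := hR.1
    haveI : ValuationRing R := { __ := hP }
    rw [Module.Flat.flat_iff_torsion_eq_bot_of_isBezout, eq_bot_iff]
    intro x hx
    obtain ⟨⟨r, hr⟩, hrx⟩ := hx
    rw [Submodule.mem_bot]
    have hr0 : r ≠ 0 := nonZeroDivisors.ne_zero hr
    have hrx' : r • x = 0 := hrx
    have hVL := valLike_quotient ht (not_isUnit_of_isAdicComplete (t := t))
    have hdvd : ∃ k : ℕ, r ∣ t ^ k := by
      by_cases hru : IsUnit r
      · exact ⟨0, hru.dvd⟩
      obtain ⟨c, h | h⟩ := PreValuationRing.cond t r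
      · -- `r = t * c`; `t` is nilpotent modulo `r`, as every nonzero prime is maximal
        suffices t ∈ (Ideal.span {r}).radical by
          obtain ⟨k, hk⟩ := this
          exact ⟨k, Ideal.mem_span_singleton.mp hk⟩
        rw [Ideal.radical_eq_sInf, Ideal.mem_sInf]
        rintro q ⟨hrq, hq⟩
        have hq0 : q ≠ ⊥ := fun e => hr0 (by simpa [e] using hrq (Ideal.mem_span_singleton_self r))
        have hqM := hq.isMaximal_of_ne_bot hq0
        by_contra htq
        obtain ⟨v, i, hi, hvi⟩ := hqM.exists_inv htq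
        obtain ⟨c', h' | h'⟩ := PreValuationRing.cond t i
        · exact not_isUnit_of_isAdicComplete (t := t)
            (IsUnit.of_mul_eq_one (v + c') (by rw [mul_add, h', mul_comm t v, hvi]))
        · exact htq (h' ▸ Ideal.mul_mem_right _ _ hi)
      · exact ⟨1, ⟨c, by rw [pow_one, h]⟩⟩
    obtain ⟨k, s, hks⟩ := hdvd
    refine pow_smul_eq_zero_rPow ht n k x ?_
    rw [hks, mul_comm, mul_smul, hrx', smul_zero]

theorem finitePresentation_ideal (hR : AdicRing.IsBase R I) {A : Type u} [CommRing A] [Algebra R A]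
    (hA : AdicRing.TopFinitePresentation R I A) (J : Ideal A) (hJ : J.FG) :
    Module.FinitePresentation A J := by
  classical
  haveI : Module.Finite A J := Module.Finite.iff_fg.mpr hJ
  obtain ⟨n, φ, hφ, ⟨B, hB⟩⟩ := hA
  rcases hR.2 with ⟨hN, -⟩ | ⟨hD, hP, hK, t, ht, rfl⟩
  · haveI := hN
    haveI := isNoetherianRing_rPow (I := I) n
    haveI : IsNoetherianRing A := isNoetherianRing_of_surjective _ A φ.toRingHom hφ
    exact Module.finitePresentation_of_finite A J
  haveI := hD
  letI : Algebra (AdicRing.RPow R (Ideal.span {t}) n) A := φ.toRingHom.toAlgebra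
  obtain ⟨m, p, hp⟩ := Module.Finite.exists_fin' A J
  refine Module.finitePresentation_of_surjective p hp ?_
  choose g hg using fun i : Fin m => hφ (p (Pi.single i 1) : A)
  let Φ : ((Fin m → (AdicRing.RPow R (Ideal.span {t}) n)) × ({b // b ∈ B} → (AdicRing.RPow R (Ideal.span {t}) n))) →ₗ[(AdicRing.RPow R (Ideal.span {t}) n)] (AdicRing.RPow R (Ideal.span {t}) n) :=
    LinearMap.coprod (Fintype.linearCombination (AdicRing.RPow R (Ideal.span {t}) n) g) (Fintype.linearCombination (AdicRing.RPow R (Ideal.span {t}) n) fun b => (b : (AdicRing.RPow R (Ideal.span {t}) n)))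
  have hgood := (good_rPow hR n).1
  have hfg : (LinearMap.ker Φ).FG := by
    refine hgood.fg_of_saturated _ fun x k hx => ?_
    have h := hx (t ^ k) (Ideal.pow_mem_pow (Ideal.mem_span_singleton_self t) k)
    rw [LinearMap.mem_ker, LinearMap.map_smul_of_tower] at h
    exact pow_smul_eq_zero_rPow ht n k _ h
  let π : (Fin m → (AdicRing.RPow R (Ideal.span {t}) n)) →ₗ[(AdicRing.RPow R (Ideal.span {t}) n)] (Fin m → A) := LinearMap.pi fun i => Algebra.linearMap (AdicRing.RPow R (Ideal.span {t}) n) A ∘ₗ LinearMap.proj i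
  have hπ : ∀ w, (p (π w) : A) = φ (Fintype.linearCombination (AdicRing.RPow R (Ideal.span {t}) n) g w) := by
    intro w
    have e : π w = ∑ i, φ (w i) • (Pi.single i 1 : Fin m → A) := by
      conv_lhs => rw [pi_eq_sum_univ (π w)]
      refine Finset.sum_congr rfl fun i _ => ?_
      congr 1
      funext j
      simp [Pi.single_apply, eq_comm]
    rw [e, map_sum, Fintype.linearCombination_apply, map_sum]
    simp only [map_smul, AddSubmonoidClass.coe_finset_sum, SetLike.val_smul, smul_eq_mul, map_mul, hg]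
  have hker : (LinearMap.ker p).restrictScalars (AdicRing.RPow R (Ideal.span {t}) n) =
      (LinearMap.ker Φ).map (π ∘ₗ LinearMap.fst (AdicRing.RPow R (Ideal.span {t}) n) _ _) := by
    apply le_antisymm
    · intro w hw
      rw [Submodule.restrictScalars_mem, LinearMap.mem_ker] at hw
      choose w' hw' using fun i => hφ (w i)
      have e : π w' = w := funext hw'
      have h1 : Fintype.linearCombination (AdicRing.RPow R (Ideal.span {t}) n) g w' ∈ RingHom.ker φ.toRingHom := by
        rw [RingHom.mem_ker]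
        change φ _ = 0
        rw [← hπ, e, hw]; rfl
      rw [← hB] at h1
      obtain ⟨q, hq⟩ := Submodule.mem_span_finset'.mp h1
      refine ⟨(w', -q), ?_, e⟩
      rw [SetLike.mem_coe, LinearMap.mem_ker, LinearMap.coprod_apply, map_neg,
        Fintype.linearCombination_apply (AdicRing.RPow R (Ideal.span {t}) n) (fun b : {b // b ∈ B} => (b : (AdicRing.RPow R (Ideal.span {t}) n))), hq, add_neg_cancel]
    · rintro _ ⟨⟨w, q⟩, h, rfl⟩
      rw [SetLike.mem_coe, LinearMap.mem_ker, LinearMap.coprod_apply] at h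
      rw [Submodule.restrictScalars_mem, LinearMap.mem_ker]
      apply Subtype.ext
      rw [LinearMap.comp_apply, LinearMap.fst_apply, hπ, eq_neg_of_add_eq_zero_left h, map_neg,
        neg_eq_zero.mpr]
      · rfl
      · have : Fintype.linearCombination (AdicRing.RPow R (Ideal.span {t}) n) (fun b : {b // b ∈ B} => (b : (AdicRing.RPow R (Ideal.span {t}) n))) q ∈ RingHom.ker φ.toRingHom := by
          rw [Fintype.linearCombination_apply, ← hB]
          exact Submodule.sum_mem _ fun b _ => Submodule.smul_mem _ _ (Submodule.subset_span b.2)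
        exact this
  refine Submodule.FG.of_restrictScalars (AdicRing.RPow R (Ideal.span {t}) n) ?_
  rw [hker]
  exact hfg.map _

end Groth.Agent.Lib.RigH7
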