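import Groth.Agent.Lib.RigH7.Complete
import Groth.Agent.Lib.RigH7.Base

/-! Universal property of the charts of an admissible formal blow-up. -/

universe u

namespace Groth.Agent.Lib.RigH7

theorem existsUnique_lift_chartAdm {R : Type u} [CommRing R] {I : Ideal R} (hI : I.FG)
    {A : Type u} [CommRing A] [Algebra R A] {ι : Type} (f : ι → A) (i : ι)
    {B : Type u} [CommRing B] [Algebra R B] [IsAdicComplete (I.map (algebraMap R B)) B]
    (φ : A →ₐ[R] B) (hnzd : φ (f i) ∈ nonZeroDivisors B)
    (hgen : ∀ j, φ (f j) ∈ Ideal.span {φ (f i)}) :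
    ∃! ψ : AdicRing.chartAdm I f i →ₐ[R] B,
      ψ.comp (IsScalarTower.toAlgHom R A (AdicRing.chartAdm I f i)) = φ := by
  classical
  letI : Algebra A B := φ.toRingHom.toAlgebra
  haveI : IsScalarTower R A B := IsScalarTower.of_algebraMap_eq' φ.comp_algebraMap.symm
  choose b hb using fun j : {j : ι // j ≠ i} => Ideal.mem_span_singleton'.mp (hgen j.1)
  set C := AdicRing.chartAlg f i
  set Ch := AdicRing.chartCompl I f i
  let g₀ : MvPolynomial {j : ι // j ≠ i} A →ₐ[A] B := MvPolynomial.aeval b
  let g : C →ₐ[R] B := (Ideal.Quotient.liftₐ _ g₀ (by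
    intro x hx
    induction hx using Submodule.span_induction with
    | mem x hx =>
      obtain ⟨j, rfl⟩ := hx
      rw [map_sub, map_mul, MvPolynomial.aeval_C, MvPolynomial.aeval_C, MvPolynomial.aeval_X,
        sub_eq_zero]
      exact (mul_comm _ _).trans (hb j)
    | zero => exact map_zero _
    | add x y _ _ hx hy => rw [map_add, hx, hy, add_zero]
    | smul r x _ hx => rw [smul_eq_mul, map_mul, hx, mul_zero])).restrictScalars R
  have hgA : ∀ a : A, g (algebraMap A C a) = φ a := fun a => g₀.commutes a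
  obtain ⟨G, hG⟩ := exists_lift (I := I) g
  have hGA : ∀ a : A, G (algebraMap A Ch a) = φ a := fun a => by
    rw [IsScalarTower.algebraMap_apply A C Ch, hG, hgA]
  let T : Ideal Ch := (⨆ n : ℕ, Submodule.torsionBy Ch Ch (algebraMap A Ch (f i) ^ n))
  have hT : T ≤ RingHom.ker G.toRingHom := by
    refine iSup_le fun n x hx => ?_
    rw [Submodule.mem_torsionBy_iff, smul_eq_mul] at hx
    rw [RingHom.mem_ker]
    have h := congr_arg G hx
    rw [map_mul, map_pow, hGA, map_zero, mul_comm] at h
    exact (mem_nonZeroDivisors_iff.mp (pow_mem hnzd n)).2 _ h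
  let ψ : AdicRing.chartAdm I f i →ₐ[R] B := Ideal.Quotient.liftₐ T G fun a ha => hT ha
  have hψ : ∀ x : Ch, ψ (Ideal.Quotient.mk T x) = G x := fun x => rfl
  have hmkA : ∀ a : A, algebraMap A (AdicRing.chartAdm I f i) a =
      Ideal.Quotient.mk T (algebraMap A Ch a) := fun a => rfl
  refine ⟨ψ, AlgHom.ext fun a => ?_, fun ψ' hψ' => ?_⟩
  · change ψ (algebraMap A (AdicRing.chartAdm I f i) a) = φ a
    rw [hmkA, hψ, hGA]
  · let q : Ch →ₐ[R] AdicRing.chartAdm I f i := Ideal.Quotient.mkₐ R T
    have hA : ∀ a, ψ' (q (algebraMap A Ch a)) = φ a := fun a => AlgHom.congr_fun hψ' a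
    have hGG : ψ'.comp q = G := by
      refine hom_ext hI fun c => ?_
      obtain ⟨p, rfl⟩ := Ideal.Quotient.mk_surjective c
      rw [hG]
      induction p using MvPolynomial.induction_on with
      | C a => exact (hA a).trans (hgA a).symm
      | add p p' h h' => simp only [map_add, h, h']
      | mul_X p j h =>
        simp only [map_mul, h]
        congr 1
        have hrel : algebraMap A C (f i) * Ideal.Quotient.mk _ (MvPolynomial.X j) =
            algebraMap A C (f j.1) := by
          refine Ideal.Quotient.eq.mpr ?_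
          exact Ideal.subset_span ⟨j, rfl⟩
        have h1 := congr_arg (fun c => (ψ'.comp q) (algebraMap C Ch c)) hrel
        have h2 := congr_arg g hrel
        simp only [map_mul, ← IsScalarTower.algebraMap_apply A C Ch, AlgHom.comp_apply, hA] at h1
        simp only [map_mul, hgA] at h2
        exact (mul_cancel_left_mem_nonZeroDivisors hnzd).mp (h1.trans h2.symm)
    apply AlgHom.ext
    intro y
    obtain ⟨x, rfl⟩ := Ideal.Quotient.mk_surjective y
    rw [hψ, ← hGG]; rfl

end Groth.Agent.Lib.RigH7
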