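import Groth.Agent.Lib.RigH7.Basic

/-! In a chart of an admissible blow-up, `I`-power torsion and torsion for the chart generator
agree. -/

universe u
open MvPolynomial

namespace Groth.Agent.Lib.RigH7

variable {R : Type u} [CommRing R] {I : Ideal R} {A : Type u} [CommRing A] [Algebra R A]
  {ι : Type} (f : ι → A) (i : ι)

theorem chartAlg_rel (j : {j : ι // j ≠ i}) :
    algebraMap A (AdicRing.chartAlg f i) (f i) * Ideal.Quotient.mk _ (X j) =
      algebraMap A (AdicRing.chartAlg f i) (f j.1) :=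
  Ideal.Quotient.eq.mpr (Ideal.subset_span ⟨j, rfl⟩)

/-- Multiplying by a power of the generator lands in the image of `A`. -/
theorem exists_pow_mul_eq (c : AdicRing.chartAlg f i) :
    ∃ (d : ℕ) (a : A), algebraMap A _ (f i) ^ d * c = algebraMap A (AdicRing.chartAlg f i) a := by
  obtain ⟨p, rfl⟩ := Ideal.Quotient.mk_surjective c
  induction p using MvPolynomial.induction_on with
  | C a => exact ⟨0, a, by rw [pow_zero, one_mul]; rfl⟩
  | add p q hp hq =>
    obtain ⟨d, a, ha⟩ := hp
    obtain ⟨e, b, hb⟩ := hq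
    refine ⟨d + e, f i ^ e * a + f i ^ d * b, ?_⟩
    rw [map_add, map_add, map_mul (algebraMap A _) (f i ^ e), map_mul (algebraMap A _) (f i ^ d),
      map_pow, map_pow, ← ha, ← hb, pow_add]
    ring
  | mul_X p j hp =>
    obtain ⟨d, a, ha⟩ := hp
    refine ⟨d + 1, a * f j.1, ?_⟩
    rw [map_mul, map_mul (algebraMap A _) a, ← ha, ← chartAlg_rel f i j, pow_succ]
    ring

/-- The kernel of `A → chartAlg` is `f i`-power torsion. -/
theorem exists_pow_mul_eq_zero (a : A) (ha : algebraMap A (AdicRing.chartAlg f i) a = 0) :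
    ∃ e : ℕ, f i ^ e * a = 0 := by
  classical
  let L := Localization.Away (f i)
  have hu : IsUnit (algebraMap A L (f i)) := IsLocalization.Away.algebraMap_isUnit _
  let b : {j : ι // j ≠ i} → L := fun j => ↑hu.unit⁻¹ * algebraMap A L (f j.1)
  have hb : ∀ j, algebraMap A L (f i) * b j = algebraMap A L (f j.1) := fun j => by
    rw [← mul_assoc, IsUnit.mul_val_inv, one_mul]
  let g : AdicRing.chartAlg f i →ₐ[A] L := Ideal.Quotient.liftₐ _ (MvPolynomial.aeval b) (by
    intro x hx
    induction hx using Submodule.span_induction with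
    | mem x hx =>
      obtain ⟨j, rfl⟩ := hx
      rw [map_sub, map_mul, aeval_C, aeval_C, aeval_X, hb, sub_self]
    | zero => exact map_zero _
    | add x y _ _ hx hy => rw [map_add, hx, hy, add_zero]
    | smul r x _ hx => rw [smul_eq_mul, map_mul, hx, mul_zero])
  have h := congr_arg g ha
  rw [g.commutes, map_zero] at h
  obtain ⟨⟨_, e, rfl⟩, he⟩ := (IsLocalization.map_eq_zero_iff (Submonoid.powers (f i)) L a).mp h
  exact ⟨e, he⟩

theorem exists_pow_mul_eq_zero_of_forall {ι' : Type*} (S : Finset ι') (a : ι' → A)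
    (h : ∀ j ∈ S, ∃ e : ℕ, f i ^ e * a j = 0) : ∃ e : ℕ, ∀ j ∈ S, f i ^ e * a j = 0 := by
  classical
  choose e he using h
  refine ⟨S.attach.sup fun j => e j.1 j.2, fun j hj => ?_⟩
  obtain ⟨k, hk⟩ := Nat.exists_eq_add_of_le
    (Finset.le_sup (f := fun j : {j // j ∈ S} => e j.1 j.2) (Finset.mem_attach S ⟨j, hj⟩))
  rw [hk, pow_add, mul_comm (_ ^ _) (_ ^ k), mul_assoc, he j hj, mul_zero]

/-- `I`-power torsion of the chart algebra is torsion for the generator. -/
theorem chartAlg_torsion (hI : I.FG) (hA : AdicRing.NoPowTorsion I A) (c : AdicRing.chartAlg f i)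
    (n : ℕ) (hc : ∀ r ∈ I ^ n, algebraMap R (AdicRing.chartAlg f i) r * c = 0) :
    ∃ e : ℕ, algebraMap A _ (f i) ^ e * c = 0 := by
  obtain ⟨d, a, ha⟩ := exists_pow_mul_eq f i c
  obtain ⟨S, hS⟩ := (Ideal.FG.pow hI : (I ^ n).FG)
  have hr : ∀ r ∈ S, ∃ e : ℕ, f i ^ e * (algebraMap R A r * a) = 0 := by
    intro r hr
    refine exists_pow_mul_eq_zero f i _ ?_
    rw [map_mul, ← ha, ← IsScalarTower.algebraMap_apply, mul_left_comm,
      hc r (hS ▸ Submodule.subset_span hr), mul_zero]
  obtain ⟨e, he⟩ := exists_pow_mul_eq_zero_of_forall f i S (fun r => algebraMap R A r * a) hr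
  have h0 : f i ^ e * a = 0 := by
    refine hA _ n fun r hr => ?_
    rw [← hS] at hr
    induction hr using Submodule.span_induction with
    | mem r hr => rw [Algebra.smul_def, mul_left_comm]; exact he r hr
    | zero => simp
    | add x y _ _ hx hy => rw [add_smul, hx, hy, add_zero]
    | smul s x _ hx => rw [smul_eq_mul, mul_smul, hx, smul_zero]
  refine ⟨e + d, ?_⟩
  rw [pow_add, mul_assoc, ha, ← map_pow, ← map_mul, h0, map_zero]

theorem chartCompl_torsion (hR : AdicRing.IsBase R I) (hA : AdicRing.TopFiniteType R I A)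
    (hT : AdicRing.NoPowTorsion I A) [Finite ι] (x : AdicRing.chartCompl I f i) (n : ℕ)
    (hx : ∀ r ∈ I ^ n, r • x = 0) :
    ∃ e : ℕ, algebraMap A (AdicRing.chartCompl I f i) (f i) ^ e * x = 0 := by
  classical
  set C := AdicRing.chartAlg f i
  haveI : Algebra.FiniteType A C := inferInstance
  have hg : Good I C := good_finiteType hR hA (C := C)
  haveI : Module.Flat C (AdicRing.chartCompl I f i) := hg.flat_completion
  obtain ⟨S, hS⟩ := (Ideal.FG.pow (fg_of_isBase hR) : (I ^ n).FG)
  have hx' : ∀ b ∈ S.image (algebraMap R C), b • x = 0 := by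
    intro b hb
    obtain ⟨r, hr, rfl⟩ := Finset.mem_image.mp hb
    rw [algebraMap_smul]
    exact hx r (hS ▸ Submodule.subset_span hr)
  obtain ⟨k, a, y, hxy, ha⟩ := exists_of_forall_smul_eq_zero (C := C) _ x hx'
  have hker : ∀ j, ∀ r ∈ I ^ n, algebraMap R C r * a j = 0 := by
    intro j r hr
    rw [← hS] at hr
    induction hr using Submodule.span_induction with
    | mem r hr => exact ha _ (Finset.mem_image_of_mem _ hr) j
    | zero => simp
    | add x y _ _ hx hy => rw [map_add, add_mul, hx, hy, add_zero]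
    | smul s x _ hx => rw [smul_eq_mul, map_mul, mul_assoc, hx, mul_zero]
  choose e he using fun j => chartAlg_torsion f i (fg_of_isBase hR) hT (a j) n (hker j)
  refine ⟨Finset.univ.sup e, ?_⟩
  rw [hxy, Finset.mul_sum]
  refine Finset.sum_eq_zero fun j _ => ?_
  obtain ⟨d, hd⟩ := Nat.exists_eq_add_of_le (Finset.le_sup (f := e) (Finset.mem_univ j))
  rw [hd, IsScalarTower.algebraMap_apply A C (AdicRing.chartCompl I f i), ← map_pow,
    ← Algebra.smul_def (R := C), smul_smul, pow_add, mul_comm (_ ^ e j) (_ ^ d), mul_assoc, he j,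
    mul_zero]
  exact zero_smul C (y j)

end Groth.Agent.Lib.RigH7
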