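import Groth.Agent.Lib.RigH7.Fin

/-! Algebras topologically of finite type of dimension one over a complete valuation ring of
height one, and integral closures in algebraic extensions of its fraction field. -/

universe u v

namespace Groth.Agent.Lib.RigH7

variable {R : Type u} [CommRing R] [IsDomain R] [ValuationRing R] [Ring.KrullDimLE 1 R] {t : R}

theorem comap_eq_maximalIdeal {C : Type v} [CommRing C] [Algebra R C] (ht : t ≠ 0)
    {p : Ideal C} [p.IsPrime] (htp : algebraMap R C t ∈ p) :
    p.comap (algebraMap R C) = IsLocalRing.maximalIdeal R := by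
  have h0 : p.comap (algebraMap R C) ≠ ⊥ := fun h => ht (by
    have : t ∈ p.comap (algebraMap R C) := htp
    rwa [h, Ideal.mem_bot] at this)
  exact IsLocalRing.eq_maximalIdeal ((Ideal.comap_isPrime _ p).isMaximal_of_ne_bot h0)

theorem map_maximalIdeal_le {C : Type v} [CommRing C] [Algebra R C] (ht : t ≠ 0)
    {p : Ideal C} [p.IsPrime] (htp : algebraMap R C t ∈ p) :
    (IsLocalRing.maximalIdeal R).map (algebraMap R C) ≤ p :=
  Ideal.map_le_iff_le_comap.mpr (comap_eq_maximalIdeal ht htp).ge

theorem faithfulSMul_of_algebraMap_ne_zero {C : Type v} [CommRing C] [IsDomain C] [Algebra R C]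
    (htu : ¬ IsUnit t) (h : algebraMap R C t ≠ 0) : FaithfulSMul R C := by
  rw [faithfulSMul_iff_algebraMap_injective, RingHom.injective_iff_ker_eq_bot]
  by_contra hne
  haveI := RingHom.ker_isPrime (algebraMap R C)
  have hm := IsLocalRing.eq_maximalIdeal
    ((RingHom.ker_isPrime (algebraMap R C)).isMaximal_of_ne_bot hne)
  exact h (show t ∈ RingHom.ker (algebraMap R C) by rw [hm]; exact htu)

theorem algebraMap_t_ne_zero {C : Type v} [CommRing C] [Algebra R C] [Nontrivial C]
    (hC : AdicRing.NoPowTorsion (Ideal.span {t}) C) : algebraMap R C t ≠ 0 := by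
  intro h
  refine one_ne_zero (hC 1 1 fun a ha => ?_)
  obtain ⟨b, rfl⟩ := Ideal.mem_span_singleton'.mp (by rwa [pow_one] at ha)
  rw [Algebra.smul_def, mul_one, map_mul, h, mul_zero]

theorem noPowTorsion_of_domain {C : Type v} [CommRing C] [IsDomain C] [Algebra R C]
    (h : algebraMap R C t ≠ 0) : AdicRing.NoPowTorsion (Ideal.span {t}) C := by
  intro x n hx
  have h1 := hx (t ^ n) (Ideal.pow_mem_pow (Ideal.mem_span_singleton_self t) n)
  rw [Algebra.smul_def, map_pow] at h1
  exact (mul_eq_zero.mp h1).resolve_left (pow_ne_zero _ h)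

variable [IsAdicComplete (Ideal.span {t}) R]

theorem topFiniteType_self : AdicRing.TopFiniteType R (Ideal.span {t}) R := by
  haveI : IsAdicComplete ((Ideal.span {t}).map (algebraMap R R)) R := by
    rw [Algebra.algebraMap_self, Ideal.map_id]; infer_instance
  obtain ⟨G, -⟩ := exists_lift (I := Ideal.span {t})
    (MvPolynomial.aeval (R := R) (Fin.elim0 : Fin 0 → R))
  exact ⟨0, G, fun r => ⟨algebraMap R _ r, G.commutes r⟩⟩

theorem isAdicComplete_map_of_finite (ht : t ≠ 0) (C : Type u) [CommRing C] [Algebra R C]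
    [Module.Finite R C] : IsAdicComplete ((Ideal.span {t}).map (algebraMap R C)) C := by
  haveI := isAdicComplete_of_topFiniteType (isBase_of ht) (A := R) topFiniteType_self C
  exact (isAdicComplete_iff _ C).mpr
    ⟨(IsHausdorff.map_algebraMap_iff (S := C)).mpr inferInstance,
      (IsPrecomplete.map_algebraMap_iff (S := C)).mpr inferInstance⟩

/-- A finite domain over `R`, containing it, is local. -/
theorem isLocalRing_of_finite (ht : t ≠ 0) (C : Type u) [CommRing C] [IsDomain C] [Algebra R C]
    [Module.Finite R C] : IsLocalRing C := by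
  haveI := isAdicComplete_map_of_finite ht C
  set J := (Ideal.span {t}).map (algebraMap R C)
  have htJ : algebraMap R C t ∈ J := Ideal.mem_map_of_mem _ (Ideal.mem_span_singleton_self t)
  have hjac : J ≤ (⊥ : Ideal C).jacobson := IsAdicComplete.le_jacobson_bot J
  haveI : Algebra.IsIntegral R C := Algebra.IsIntegral.of_finite R C
  -- every prime containing `t` is maximal, and there are only finitely many
  have hmax : ∀ p : Ideal C, p.IsPrime → algebraMap R C t ∈ p → p.IsMaximal := fun p hp htp =>
    Ideal.isMaximal_of_isIntegral_of_isMaximal_comap p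
      (comap_eq_maximalIdeal ht htp ▸ IsLocalRing.maximalIdeal.isMaximal R)
  haveI : Ring.KrullDimLE 0 (C ⧸ J) := .mk₀ fun q hq => by
    haveI := hq
    have h := hmax (q.comap (Ideal.Quotient.mk J)) inferInstance
      (show Ideal.Quotient.mk J _ ∈ q by
        rw [Ideal.Quotient.eq_zero_iff_mem.mpr htJ]; exact q.zero_mem)
    rw [← Ideal.map_comap_of_surjective _ Ideal.Quotient.mk_surjective q]
    exact (Ideal.map_eq_top_or_isMaximal_of_surjective _ Ideal.Quotient.mk_surjective h).resolve_left
      (by rw [Ideal.map_comap_of_surjective _ Ideal.Quotient.mk_surjective q]; exact hq.ne_top)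
  haveI : Finite (PrimeSpectrum (C ⧸ J)) := by
    haveI := ((Algebra.QuasiFinite.finite_primesOver (R := R) (S := C ⧸ J)
      (IsLocalRing.maximalIdeal R))).to_subtype
    refine Finite.of_injective (β := (IsLocalRing.maximalIdeal R).primesOver (C ⧸ J))
      (fun q => ⟨q.asIdeal, q.isPrime, ⟨?_⟩⟩) fun a b h => PrimeSpectrum.ext (congrArg Subtype.val h)
    refine (comap_eq_maximalIdeal (p := q.asIdeal) ht ?_).symm
    rw [IsScalarTower.algebraMap_apply R C (C ⧸ J), Ideal.Quotient.algebraMap_eq,
      Ideal.Quotient.eq_zero_iff_mem.mpr htJ]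
    exact q.asIdeal.zero_mem
  haveI : DiscreteTopology (PrimeSpectrum (C ⧸ J)) :=
    PrimeSpectrum.discreteTopology_iff_finite_and_krullDimLE_zero.mpr ⟨inferInstance, inferInstance⟩
  have hJle : ∀ M : Ideal C, M.IsMaximal → J ≤ M := fun M hM =>
    hjac.trans (sInf_le ⟨bot_le, hM⟩)
  refine IsLocalRing.of_unique_max_ideal ?_
  obtain ⟨M₁, hM₁⟩ := Ideal.exists_maximal C
  refine ⟨M₁, hM₁, fun M₂ hM₂ => ?_⟩
  by_contra hne
  haveI h1 : (M₁.map (Ideal.Quotient.mk J)).IsPrime :=
    Ideal.map_isPrime_of_surjective (H := hM₁.isPrime) Ideal.Quotient.mk_surjective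
      (by rw [Ideal.mk_ker]; exact hJle _ hM₁)
  haveI h2 : (M₂.map (Ideal.Quotient.mk J)).IsPrime :=
    Ideal.map_isPrime_of_surjective (H := hM₂.isPrime) Ideal.Quotient.mk_surjective
      (by rw [Ideal.mk_ker]; exact hJle _ hM₂)
  have hcm : ∀ (M : Ideal C), M.IsMaximal → ∀ x,
      Ideal.Quotient.mk J x ∈ M.map (Ideal.Quotient.mk J) ↔ x ∈ M := fun M hM x => by
    rw [Ideal.mem_quotient_iff_mem (hJle M hM)]
  obtain ⟨e, he, hs⟩ := PrimeSpectrum.exists_idempotent_basicOpen_eq_of_isClopen
    (isClopen_discrete ({⟨_, h1⟩} : Set (PrimeSpectrum (C ⧸ J))))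
  have he1 : e ∉ M₁.map (Ideal.Quotient.mk J) := by
    have : (⟨_, h1⟩ : PrimeSpectrum (C ⧸ J)) ∈ (PrimeSpectrum.basicOpen e : Set _) := by
      rw [← hs]; rfl
    exact this
  have he2 : e ∈ M₂.map (Ideal.Quotient.mk J) := by
    by_contra h
    have : (⟨_, h2⟩ : PrimeSpectrum (C ⧸ J)) ∈ (PrimeSpectrum.basicOpen e : Set _) := h
    rw [← hs] at this
    refine hne ?_
    have h' : M₂.map (Ideal.Quotient.mk J) = M₁.map (Ideal.Quotient.mk J) :=
      congrArg PrimeSpectrum.asIdeal (Set.mem_singleton_iff.mp this)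
    ext x
    rw [← hcm M₂ hM₂, ← hcm M₁ hM₁, h']
  obtain ⟨e₀, rfl⟩ := Ideal.Quotient.mk_surjective e
  have hf : (Polynomial.X ^ 2 - Polynomial.X : Polynomial C).eval e₀ ∈ J := by
    rw [← Ideal.Quotient.eq_zero_iff_mem]
    simp [pow_two, he.eq]
  have hd : IsUnit (Ideal.Quotient.mk J
      ((Polynomial.X ^ 2 - Polynomial.X : Polynomial C).derivative.eval e₀)) := by
    refine IsUnit.of_mul_eq_one (Ideal.Quotient.mk J (2 * e₀ - 1)) ?_
    have := he.eq
    simp [Polynomial.derivative_pow, map_ofNat]
    linear_combination 4 * this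
  obtain ⟨a, ha, haJ⟩ := HenselianRing.is_henselian (I := J) (Polynomial.X ^ 2 - Polynomial.X)
    (Polynomial.monic_X_pow_sub (by simp)) e₀ hf hd
  have hae : Ideal.Quotient.mk J a = Ideal.Quotient.mk J e₀ := Ideal.Quotient.eq.mpr haJ
  have : a * (a - 1) = 0 := by
    have h := ha.eq_zero
    simp at h
    linear_combination h
  rcases mul_eq_zero.mp this with rfl | h
  · exact he1 (by rw [← hae, map_zero]; exact zero_mem _)
  · rw [sub_eq_zero] at h
    subst h
    exact h2.ne_top ((Ideal.eq_top_iff_one _).mpr (by rwa [← hae, map_one] at he2))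

variable (L : Type u) [Field L] [Algebra R L]

/-- The integral closure of `R` in an extension field is local. -/
theorem isLocalRing_integralClosure (ht : t ≠ 0) : IsLocalRing (integralClosure R L) := by
  refine .of_isUnit_or_isUnit_of_isUnit_add fun {a b} hab => ?_
  obtain ⟨c, hc⟩ := hab.exists_right_inv
  let C := Algebra.adjoin R ({(a : L), (b : L), (c : L)} : Set L)
  haveI : Module.Finite R C := Module.Finite.iff_fg.mpr
    (fg_adjoin_of_finite (Set.toFinite _) (by
      rintro x (rfl | rfl | rfl) <;> exact Subtype.prop _))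
  haveI := isLocalRing_of_finite (R := R) ht C
  have hle : C ≤ integralClosure R L := Algebra.adjoin_le (by
    rintro x (rfl | rfl | rfl) <;> exact Subtype.prop _)
  let a' : C := ⟨a, Algebra.subset_adjoin (by simp)⟩
  let b' : C := ⟨b, Algebra.subset_adjoin (by simp)⟩
  let c' : C := ⟨c, Algebra.subset_adjoin (by simp)⟩
  have h : (a' + b') * c' = 1 := Subtype.ext (congrArg Subtype.val hc :)
  rcases IsLocalRing.isUnit_or_isUnit_of_isUnit_add (IsUnit.of_mul_eq_one c' h) with h' | h'
  · exact Or.inl (h'.map (Subalgebra.inclusion hle))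
  · exact Or.inr (h'.map (Subalgebra.inclusion hle))

theorem mem_or_inv_mem_integralClosure (ht : t ≠ 0) (x : L) (hx : x ≠ 0) (d : ℕ) :
    ∀ p : Polynomial (integralClosure R L), p.natDegree ≤ d → (∃ i, IsUnit (p.coeff i)) →
      Polynomial.aeval x p = 0 → x ∈ integralClosure R L ∨ x⁻¹ ∈ integralClosure R L := by
  haveI := isLocalRing_integralClosure L ht
  induction d with
  | zero =>
    intro p hp ⟨i, hi⟩ h0
    rw [Nat.le_zero] at hp
    rw [Polynomial.eq_C_of_natDegree_eq_zero hp, Polynomial.aeval_C] at h0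
    rcases Nat.eq_zero_or_pos i with rfl | hi0
    · exact absurd h0 ((hi.map (algebraMap _ L)).ne_zero)
    · rw [Polynomial.coeff_eq_zero_of_natDegree_lt (by omega)] at hi
      exact absurd hi not_isUnit_zero
  | succ d ih =>
    intro p hp ⟨i, hi⟩ h0
    rcases Nat.lt_or_ge p.natDegree (d + 1) with hlt | hge
    · exact ih p (by omega) ⟨i, hi⟩ h0
    have hdeg : p.natDegree = d + 1 := by omega
    set a := p.coeff (d + 1) with ha
    have hlead : p.leadingCoeff = a := by rw [Polynomial.leadingCoeff, hdeg]
    have hint : IsIntegral R ((a : L) * x) := by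
      have h1 := isIntegral_leadingCoeff_smul p x h0
      rw [hlead] at h1
      exact isIntegral_trans (A := integralClosure R L) _ h1
    let ax : integralClosure R L := ⟨(a : L) * x, hint⟩
    have hax : a • x = (ax : L) := rfl
    have sol_a : IsUnit a → x ∈ integralClosure R L := fun h => by
      obtain ⟨c, hc⟩ := h.exists_right_inv
      have : x = (c * ax : integralClosure R L) := by
        have h2 : ((a : L) * (c : L)) = 1 := congrArg Subtype.val hc
        show x = (c : L) * ((a : L) * x)
        rw [← mul_assoc, mul_comm (c : L), h2, one_mul]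
      rw [this]; exact Subtype.prop _
    have sol_ax : IsUnit ax → x⁻¹ ∈ integralClosure R L := fun h => by
      obtain ⟨c, hc⟩ := h.exists_right_inv
      have h2 : ((a : L) * x) * (c : L) = 1 := congrArg Subtype.val hc
      have : x⁻¹ = (a * c : integralClosure R L) := by
        refine inv_eq_of_mul_eq_one_right ?_
        show x * ((a : L) * (c : L)) = 1
        rw [← h2]; ring
      rw [this]; exact Subtype.prop _
    let q : Polynomial (integralClosure R L) :=
      p.eraseLead + Polynomial.C ax * Polynomial.X ^ d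
    have hp' : p.eraseLead + Polynomial.C a * Polynomial.X ^ (d + 1) = p := by
      rw [← hlead, ← hdeg]; exact p.eraseLead_add_C_mul_X_pow
    have hq0 : Polynomial.aeval x q = 0 := by
      rw [← h0]
      conv_rhs => rw [← hp']
      simp only [q, map_add, map_mul, Polynomial.aeval_C, map_pow, Polynomial.aeval_X]
      show _ + ((a : L) * x) * x ^ d = _ + (a : L) * x ^ (d + 1)
      ring
    have hqdeg : q.natDegree ≤ d := by
      refine Polynomial.natDegree_add_le_of_degree_le ?_ (Polynomial.natDegree_C_mul_X_pow_le _ _)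
      have := p.eraseLead_natDegree_le
      omega
    have hqc : ∀ j, j ≤ d → q.coeff j = p.coeff j + (if j = d then ax else 0) := fun j hj => by
      simp only [q, Polynomial.coeff_add, Polynomial.coeff_C_mul_X_pow]
      rw [Polynomial.eraseLead_coeff_of_ne _ (by omega)]
    rcases Nat.lt_trichotomy i (d + 1) with hlt | rfl | hgt
    · by_cases hid : i = d
      · subst hid
        by_cases hu : IsUnit ax
        · exact Or.inr (sol_ax hu)
        refine ih q hqdeg ⟨i, ?_⟩ hq0
        rw [hqc i le_rfl, if_pos rfl]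
        have : IsUnit (p.coeff i + ax + -ax) := by rwa [add_neg_cancel_right]
        exact (IsLocalRing.isUnit_or_isUnit_of_isUnit_add this).resolve_right
          (fun h => hu (by simpa using h.neg))
      · refine ih q hqdeg ⟨i, ?_⟩ hq0
        rw [hqc i (by omega), if_neg hid, add_zero]
        exact hi
    · exact Or.inl (sol_a hi)
    · rw [Polynomial.coeff_eq_zero_of_natDegree_lt (by omega)] at hi
      exact absurd hi not_isUnit_zero

omit [IsAdicComplete (Ideal.span {t}) R] [Ring.KrullDimLE 1 R] in
theorem exists_dvd_all {ι : Type*} (s : Finset ι) (f : ι → R) (hs : s.Nonempty) :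
    ∃ i ∈ s, ∀ j ∈ s, f i ∣ f j := by
  classical
  induction hs using Finset.Nonempty.cons_induction with
  | singleton a => exact ⟨a, by simp, by simp⟩
  | cons a s ha hs ih =>
    obtain ⟨i, hi, h⟩ := ih
    obtain ⟨c, h' | h'⟩ := PreValuationRing.cond (f a) (f i)
    · refine ⟨a, Finset.mem_cons_self _ _, fun j hj => ?_⟩
      rcases Finset.mem_cons.mp hj with rfl | hj
      · exact dvd_rfl
      · exact (Dvd.intro c h').trans (h j hj)
    · refine ⟨i, Finset.mem_cons_of_mem hi, fun j hj => ?_⟩
      rcases Finset.mem_cons.mp hj with rfl | hj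
      · exact Dvd.intro c h'
      · exact h j hj

/-- The integral closure of `R` in an algebraic extension field is a valuation ring. -/
theorem valuationRing_integralClosure (ht : t ≠ 0) [FaithfulSMul R L] [Algebra.IsAlgebraic R L] :
    ValuationRing (integralClosure R L) := by
  have key : ∀ x : L, x ∈ integralClosure R L ∨ x⁻¹ ∈ integralClosure R L := by
    intro x
    by_cases hx : x = 0
    · subst hx; exact Or.inl (zero_mem _)
    obtain ⟨p, hp0, hp⟩ := Algebra.IsAlgebraic.isAlgebraic (R := R) x
    obtain ⟨i, hi, hdvd⟩ := exists_dvd_all p.support (fun j => p.coeff j)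
      (Polynomial.support_nonempty.mpr hp0)
    obtain ⟨g, hg⟩ := (Polynomial.C_dvd_iff_dvd_coeff (p.coeff i) p).mpr fun j => by
      by_cases hj : j ∈ p.support
      · exact hdvd j hj
      · rw [Polynomial.notMem_support_iff.mp hj]; exact dvd_zero _
    have hpi : p.coeff i ≠ 0 := Polynomial.mem_support_iff.mp hi
    have hgi : g.coeff i = 1 := by
      have h1 : p.coeff i = p.coeff i * g.coeff i := by
        conv_lhs => rw [hg, Polynomial.coeff_C_mul]
      exact mul_left_cancel₀ hpi (by rw [mul_one, ← h1])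
    have hgx : Polynomial.aeval x g = 0 := by
      rw [hg, map_mul, Polynomial.aeval_C] at hp
      exact (mul_eq_zero.mp hp).resolve_left
        (by simpa using hpi)
    refine mem_or_inv_mem_integralClosure L ht x hx g.natDegree
      (g.map (algebraMap R (integralClosure R L))) Polynomial.natDegree_map_le
      ⟨i, by rw [Polynomial.coeff_map, hgi, map_one]; exact isUnit_one⟩ ?_
    rw [Polynomial.aeval_map_algebraMap]; exact hgx
  rw [ValuationRing.iff_dvd_total]
  refine ⟨fun a b => ?_⟩
  by_cases ha : a = 0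
  · exact Or.inr (ha ▸ dvd_zero b)
  have ha' : (a : L) ≠ 0 := fun h => ha (Subtype.ext h)
  rcases key ((b : L) / a) with h | h
  · exact Or.inl ⟨⟨_, h⟩, Subtype.ext (mul_div_cancel₀ _ ha').symm⟩
  · by_cases hb : b = 0
    · exact Or.inl (hb ▸ dvd_zero a)
    have hb' : (b : L) ≠ 0 := fun h => hb (Subtype.ext h)
    rw [inv_div] at h
    exact Or.inr ⟨⟨_, h⟩, Subtype.ext (mul_div_cancel₀ _ hb').symm⟩

end Groth.Agent.Lib.RigH7
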