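import Groth.Agent.Lib.RigH7.DimTwo
import Mathlib.RingTheory.Norm.Transitivity

/-! Integrality by norms, and the algebra of a rig-point. -/

universe u v

namespace Groth.Agent.Lib.RigH7

variable {R : Type u} [CommRing R] [IsDomain R] [ValuationRing R] [Ring.KrullDimLE 1 R] {t : R}
  [IsAdicComplete (Ideal.span {t}) R]

theorem faithfulSMul_of_tower {B : Type u} [CommRing B] [IsDomain B] [Algebra R B] [FaithfulSMul R B] :
    FaithfulSMul R (FractionRing B) := by
  rw [faithfulSMul_iff_algebraMap_injective, IsScalarTower.algebraMap_eq R B (FractionRing B),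
    RingHom.coe_comp]
  exact (IsFractionRing.injective B (FractionRing B)).comp (FaithfulSMul.algebraMap_injective R B)

theorem isAlgebraic_fractionRing {B : Type u} [CommRing B] [IsDomain B] [Algebra R B]
    [FaithfulSMul R B] [Algebra.IsIntegral R B] : Algebra.IsAlgebraic R (FractionRing B) := by
  haveI := faithfulSMul_of_tower (R := R) (B := B)
  exact (IsFractionRing.isAlgebraic_iff' R B (FractionRing B)).mp inferInstance

theorem valuationRing_integralClosure_fractionRing (ht : t ≠ 0) (B : Type u) [CommRing B]
    [IsDomain B] [Algebra R B] [FaithfulSMul R B] [Algebra.IsIntegral R B] :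
    ValuationRing (integralClosure B (FractionRing B)) := by
  haveI := faithfulSMul_of_tower (R := R) (B := B)
  haveI := isAlgebraic_fractionRing (R := R) (B := B)
  haveI hV := valuationRing_integralClosure (t := t) (FractionRing B) ht (R := R)
  have h1 : ∀ x : FractionRing B, IsIntegral R x → IsIntegral B x := fun x h => h.tower_top
  have h2 : ∀ x : FractionRing B, IsIntegral B x → IsIntegral R x := fun x h => isIntegral_trans x h
  let f : integralClosure R (FractionRing B) →+* integralClosure B (FractionRing B) :=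
    (algebraMap (integralClosure R (FractionRing B)) (FractionRing B)).codRestrict
      (integralClosure B (FractionRing B)) fun x => h1 _ x.2
  have hf : Function.Surjective f := fun y => ⟨⟨y.1, h2 _ y.2⟩, Subtype.ext rfl⟩
  exact Function.Surjective.valuationRing f hf

/-- Integrality over `R` is detected by the norm. -/
theorem isIntegral_iff_norm_gen (ht : t ≠ 0) (L : Type u) [Field L] [Algebra R L]
    [Algebra (FractionRing R) L] [IsScalarTower R (FractionRing R) L]
    [Algebra.IsAlgebraic (FractionRing R) L] (α : L) :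
    IsIntegral R α ↔
      Algebra.norm (FractionRing R) (IntermediateField.AdjoinSimple.gen (FractionRing R) α) ∈
        (algebraMap R (FractionRing R)).range := by
  set K := FractionRing R
  constructor
  · intro h
    have h' : IsIntegral R (IntermediateField.AdjoinSimple.gen K α) :=
      (isIntegral_algHom_iff ((IntermediateField.adjoin K {α}).val.restrictScalars R)
        Subtype.val_injective).mp h
    exact IsIntegrallyClosed.isIntegral_iff.mp (Algebra.isIntegral_norm K h')
  · rintro ⟨r, hr⟩
    set Ω := AlgebraicClosure L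
    haveI : Algebra.IsAlgebraic K Ω := Algebra.IsAlgebraic.trans K L Ω
    haveI : FaithfulSMul R Ω := by
      rw [faithfulSMul_iff_algebraMap_injective, IsScalarTower.algebraMap_eq R K Ω, RingHom.coe_comp]
      exact (algebraMap K Ω).injective.comp (IsFractionRing.injective R K)
    haveI : Algebra.IsAlgebraic R Ω := (IsFractionRing.comap_isAlgebraic_iff (K := K)).mpr inferInstance
    haveI := valuationRing_integralClosure (t := t) Ω ht (R := R)
    haveI : IsFractionRing (integralClosure R Ω) Ω :=
      integralClosure.isFractionRing_of_algebraic fun x hx =>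
        (map_eq_zero_iff _ (FaithfulSMul.algebraMap_injective R Ω)).mp hx
    by_cases hα0 : α = 0
    · rw [hα0]; exact isIntegral_zero
    by_contra hα
    have hint : IsIntegral K α := Algebra.IsIntegral.isIntegral α
    have hsp : ((minpoly K α).map (algebraMap K Ω)).Splits := IsAlgClosed.splits _
    have hprod := IntermediateField.AdjoinSimple.norm_gen_eq_prod_roots (F := Ω) α hsp
    rw [← hr] at hprod
    -- no root is integral
    have hroot : ∀ β ∈ (minpoly K α).aroots Ω, β⁻¹ ∈ integralClosure R Ω ∧ β ∉ integralClosure R Ω := by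
      intro β hβ
      have hβ' : β ∉ integralClosure R Ω := fun h => hα (by
        obtain ⟨-, hev⟩ := Polynomial.mem_aroots'.mp hβ
        let ψ : IntermediateField.adjoin K {α} →ₐ[K] Ω :=
          (IntermediateField.algHomAdjoinIntegralEquiv K hint).symm ⟨β, hβ⟩
        have hψ : ψ (IntermediateField.AdjoinSimple.gen K α) = β :=
          IntermediateField.algHomAdjoinIntegralEquiv_symm_apply_gen K hint ⟨β, hβ⟩
        have h1 : IsIntegral R (IntermediateField.AdjoinSimple.gen K α) :=
          (isIntegral_algHom_iff (ψ.restrictScalars R) ψ.toRingHom.injective).mp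
            (by show IsIntegral R (ψ _); rw [hψ]; exact h)
        exact h1.map ((IntermediateField.adjoin K {α}).val.restrictScalars R))
      refine ⟨?_, hβ'⟩
      by_cases hb : β = 0
      · exact absurd (hb ▸ zero_mem _) hβ'
      exact ((ValuationRing.isInteger_or_isInteger (integralClosure R Ω) β).resolve_left
        (fun ⟨y, hy⟩ => hβ' (hy ▸ y.2))).elim fun y hy => hy ▸ y.2
    let inv : {β // β ∈ (minpoly K α).aroots Ω} → integralClosure R Ω := fun β =>
      ⟨β.1⁻¹, (hroot β.1 β.2).1⟩
    have hne : (minpoly K α).aroots Ω ≠ 0 := by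
      intro h0
      have hdeg := minpoly.natDegree_pos hint
      have := hsp.natDegree_eq_card_roots
      rw [Polynomial.natDegree_map, ← Polynomial.aroots_def, h0] at this
      simp at this
      omega
    obtain ⟨β₀, hβ₀⟩ := Multiset.exists_mem_of_ne_zero hne
    -- the product of the inverses times `r` is `1`
    have hone : (((minpoly K α).aroots Ω).attach.map inv).prod * algebraMap R _ r = 1 := by
      apply Subtype.ext
      simp only [MulMemClass.coe_mul, SubmonoidClass.coe_multiset_prod, Multiset.map_map]
      have h1 : ((algebraMap R (integralClosure R Ω) r : integralClosure R Ω) : Ω) =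
          ((minpoly K α).aroots Ω).prod := by
        rw [← hprod]
        exact IsScalarTower.algebraMap_apply R K Ω r
      rw [h1, show (Multiset.map (Subtype.val ∘ inv) ((minpoly K α).aroots Ω).attach) =
        ((minpoly K α).aroots Ω).map (·⁻¹) from by
          rw [← Multiset.attach_map_val' _ (fun x : Ω => x⁻¹)]; rfl,
        Multiset.prod_map_inv, Multiset.map_id', inv_mul_cancel₀]
      · rfl
      · intro h0
        rw [Multiset.prod_eq_zero_iff] at h0
        exact (hroot 0 h0).2 (zero_mem _)
    have hu : IsUnit ((((minpoly K α).aroots Ω).attach.map inv).prod) := IsUnit.of_mul_eq_one _ hone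
    have hb : IsUnit (inv ⟨β₀, hβ₀⟩) := isUnit_of_dvd_unit
      (Multiset.dvd_prod (Multiset.mem_map_of_mem inv (Multiset.mem_attach _ ⟨β₀, hβ₀⟩))) hu
    obtain ⟨c, hc⟩ := hb.exists_right_inv
    refine (hroot β₀ hβ₀).2 ?_
    have h2 : β₀⁻¹ * (c : Ω) = 1 := congrArg Subtype.val hc
    have : (c : Ω) = β₀ := by
      rw [← mul_one (β₀ : Ω), ← h2, ← mul_assoc, mul_inv_cancel₀ ?_, one_mul]
      exact fun h => (hroot β₀ hβ₀).2 (h ▸ zero_mem _)
    exact this ▸ c.2

theorem isLocalRing_dim_of_integral (ht : t ≠ 0) {C B : Type u} [CommRing C] [CommRing B] [IsDomain B]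
    [IsLocalRing B] [Algebra R C] [Algebra R B] [FaithfulSMul R B] [Module.Finite R B]
    (j : C →ₐ[R] B) (hj : Function.Injective j) : IsLocalRing C ∧ ringKrullDim C = 1 := by
  haveI : IsDomain C := hj.isDomain j.toRingHom
  letI : Algebra C B := j.toRingHom.toAlgebra
  haveI : IsScalarTower R C B := IsScalarTower.of_algebraMap_eq fun r => (j.commutes r).symm
  haveI : FaithfulSMul C B := (faithfulSMul_iff_algebraMap_injective C B).mpr hj
  haveI : FaithfulSMul R C := (faithfulSMul_iff_algebraMap_injective R C).mpr fun a b h =>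
    FaithfulSMul.algebraMap_injective R B (by rw [← j.commutes, ← j.commutes, h])
  haveI : Algebra.IsIntegral R B := Algebra.IsIntegral.of_finite R B
  haveI : Algebra.IsIntegral C B := Algebra.IsIntegral.tower_top R
  haveI : Algebra.IsIntegral R C :=
    ⟨fun x => (isIntegral_algHom_iff j hj).mp (Algebra.IsIntegral.isIntegral _)⟩
  exact ⟨(algebraMap C B).domain_isLocalRing,
    ringKrullDim_eq_one_of_isIntegral ht (not_isUnit_of_isAdicComplete (t := t)) C⟩

/-- The affine surjectivity of specialisation. -/
theorem exists_prime_le_maximal (ht : t ≠ 0) (n : ℕ)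
    (M : Ideal (AdicRing.RPow R (Ideal.span {t}) n)) [M.IsMaximal]
    (hM : algebraMap R (AdicRing.RPow R (Ideal.span {t}) n) t ∈ M) :
    ∃ p : Ideal (AdicRing.RPow R (Ideal.span {t}) n), p.IsPrime ∧ p ≤ M ∧
      algebraMap R (AdicRing.RPow R (Ideal.span {t}) n) t ∉ p ∧
      ringKrullDim (AdicRing.RPow R (Ideal.span {t}) n ⧸ p) = 1 := by
  classical
  have htu : ¬ IsUnit t := not_isUnit_of_isAdicComplete
  set m := IsLocalRing.maximalIdeal R
  letI := Ideal.Quotient.field m
  let P := AdicRing.RPow R (Ideal.span {t}) n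
  set Ω := AlgebraicClosure (FractionRing R)
  haveI : FaithfulSMul R Ω := by
    rw [faithfulSMul_iff_algebraMap_injective, IsScalarTower.algebraMap_eq R (FractionRing R) Ω,
      RingHom.coe_comp]
    exact (algebraMap (FractionRing R) Ω).injective.comp (IsFractionRing.injective R _)
  haveI : Algebra.IsAlgebraic R Ω :=
    (IsFractionRing.comap_isAlgebraic_iff (K := FractionRing R)).mpr inferInstance
  let S := integralClosure R Ω
  haveI : ValuationRing S := valuationRing_integralClosure Ω ht
  haveI : Algebra.IsIntegral R S :=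
    ⟨fun x => (isIntegral_algHom_iff S.val Subtype.val_injective).mp x.2⟩
  haveI : FaithfulSMul R S := (faithfulSMul_iff_algebraMap_injective R S).mpr fun a b h =>
    FaithfulSMul.algebraMap_injective R Ω (congrArg Subtype.val h)
  let kS := IsLocalRing.ResidueField S
  -- `kS` is algebraically closed
  haveI : IsAlgClosed kS := IsAlgClosed.of_exists_root _ fun f hf hirr => by
    obtain ⟨F, hFmap, hFdeg, hFm⟩ := Polynomial.lifts_and_degree_eq_and_monic
      ((Polynomial.mem_lifts f).mpr
        (Polynomial.map_surjective (IsLocalRing.residue S) IsLocalRing.residue_surjective f)) hf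
    have hdeg : (F.map (algebraMap S Ω)).degree ≠ 0 := by
      rw [hFm.degree_map, hFdeg]; exact (Polynomial.degree_pos_of_irreducible hirr).ne'
    obtain ⟨x, hx⟩ := IsAlgClosed.exists_root _ hdeg
    have hxint : IsIntegral S x :=
      ⟨F, hFm, by rwa [← Polynomial.eval_map]⟩
    have hxS : x ∈ S := isIntegral_trans (A := S) x hxint
    refine ⟨IsLocalRing.residue S ⟨x, hxS⟩, ?_⟩
    rw [← hFmap, Polynomial.eval_map, Polynomial.eval₂_at_apply]
    have : F.eval (⟨x, hxS⟩ : S) = 0 := Subtype.ext (by
      have h' : Polynomial.eval₂ (algebraMap S Ω) x F = 0 := by rwa [← Polynomial.eval_map]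
      rw [show x = algebraMap S Ω ⟨x, hxS⟩ from rfl, Polynomial.eval₂_at_apply] at h'
      exact h')
    rw [this, map_zero]
  -- the residue field of `M`
  let q := m.map (algebraMap R P)
  have hqM : q ≤ M := map_maximalIdeal_le ht hM
  letI := Ideal.Quotient.field M
  have hcm : m ≤ M.comap (algebraMap R P) := Ideal.map_le_iff_le_comap.mp hqM
  letI : Algebra (R ⧸ m) (P ⧸ M) := (Ideal.quotientMap M (algebraMap R P) hcm).toAlgebra
  haveI : IsScalarTower R (R ⧸ m) (P ⧸ M) := IsScalarTower.of_algebraMap_eq fun r => rfl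
  haveI : Algebra.FiniteType R (P ⧸ M) :=
    Algebra.FiniteType.of_surjective (A := MvPolynomial (Fin n) R)
      ((Ideal.Quotient.mkₐ R M).comp
        (IsScalarTower.toAlgHom R (MvPolynomial (Fin n) R) P))
      fun y => by
        obtain ⟨a, rfl⟩ := Ideal.Quotient.mk_surjective y
        obtain ⟨p, hp⟩ := exists_special_surjective (AlgHom.id R P) Function.surjective_id a
        exact ⟨p, (Ideal.Quotient.eq.mpr (hqM hp)).symm⟩
  haveI : Algebra.FiniteType (R ⧸ m) (P ⧸ M) := Algebra.FiniteType.of_restrictScalars_finiteType R _ _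
  haveI : Module.Finite (R ⧸ m) (P ⧸ M) := finite_of_finite_type_of_isJacobsonRing _ _
  letI : Algebra (R ⧸ m) kS := (Ideal.Quotient.lift m (algebraMap R kS) fun r hr => by
    rw [IsScalarTower.algebraMap_apply R S kS, IsLocalRing.ResidueField.algebraMap_eq,
      IsLocalRing.residue_eq_zero_iff]
    exact (IsLocalRing.mem_maximalIdeal _).mpr fun hu => hr (isUnit_of_map_unit _ r hu)).toAlgebra
  haveI : IsScalarTower R (R ⧸ m) kS := IsScalarTower.of_algebraMap_eq fun r => rfl
  haveI : Algebra.IsAlgebraic (R ⧸ m) (P ⧸ M) := Algebra.IsAlgebraic.of_finite _ _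
  let σ : P ⧸ M →ₐ[R] kS := (IsAlgClosed.lift (R := R ⧸ m) (M := kS) (S := P ⧸ M)).restrictScalars R
  choose s hs using fun i : Fin n =>
    IsLocalRing.residue_surjective
      (σ (Ideal.Quotient.mk M (algebraMap (MvPolynomial (Fin n) R) P (MvPolynomial.X i))))
  let C := Algebra.adjoin R (Set.range fun i => (s i : Ω))
  haveI : Module.Finite R C := Module.Finite.iff_fg.mpr
    (fg_adjoin_of_finite (Set.finite_range _) (by rintro x ⟨i, rfl⟩; exact (s i).2))
  haveI := isLocalRing_of_finite (R := R) ht C
  haveI := isAdicComplete_map_of_finite ht C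
  haveI : FaithfulSMul R C := (faithfulSMul_iff_algebraMap_injective R C).mpr fun a b h =>
    FaithfulSMul.algebraMap_injective R Ω (congrArg Subtype.val h)
  have hC : C ≤ S := Algebra.adjoin_le (by rintro x ⟨i, rfl⟩; exact (s i).2)
  obtain ⟨G, hG⟩ : ∃ G : P →ₐ[R] C, ∀ c : MvPolynomial (Fin n) R,
      G (algebraMap (MvPolynomial (Fin n) R) P c) =
        MvPolynomial.aeval (fun i => (⟨s i, Algebra.subset_adjoin ⟨i, rfl⟩⟩ : C)) c :=
    exists_lift (I := Ideal.span {t})
      (MvPolynomial.aeval fun i => (⟨s i, Algebra.subset_adjoin ⟨i, rfl⟩⟩ : C))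
  have hGs : Function.Surjective G := by
    suffices ∀ y (hy : y ∈ C), ∃ x, (G x : Ω) = y from fun c => by
      obtain ⟨x, hx⟩ := this c.1 c.2
      exact ⟨x, Subtype.ext hx⟩
    intro y hy
    induction hy using Algebra.adjoin_induction with
    | mem y hy =>
      obtain ⟨i, rfl⟩ := hy
      exact ⟨algebraMap _ P (MvPolynomial.X i), by rw [hG, MvPolynomial.aeval_X]⟩
    | algebraMap r => exact ⟨algebraMap R P r, by rw [G.commutes]; rfl⟩
    | add a b _ _ ha hb =>
      obtain ⟨u, rfl⟩ := ha
      obtain ⟨v, rfl⟩ := hb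
      exact ⟨u + v, by rw [map_add]; rfl⟩
    | mul a b _ _ ha hb =>
      obtain ⟨u, rfl⟩ := ha
      obtain ⟨v, rfl⟩ := hb
      exact ⟨u * v, by rw [map_mul]; rfl⟩
  haveI : Algebra.IsIntegral R C := Algebra.IsIntegral.of_finite R C
  refine ⟨RingHom.ker G.toRingHom, RingHom.ker_isPrime _, ?_, fun h => ?_, ?_⟩
  · -- the map to `kS` through `C` kills exactly `M`
    let ρ : P →ₐ[R] kS :=
      (IsScalarTower.toAlgHom R S kS).comp ((Subalgebra.inclusion hC).comp G)
    have hagree : ∀ p : MvPolynomial (Fin n) R,
        ρ (algebraMap _ P p) = σ (Ideal.Quotient.mk M (algebraMap _ P p)) := by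
      intro p
      have : ρ.comp (IsScalarTower.toAlgHom R (MvPolynomial (Fin n) R) P) =
          (σ.comp (Ideal.Quotient.mkₐ R M)).comp
            (IsScalarTower.toAlgHom R (MvPolynomial (Fin n) R) P) := by
        refine MvPolynomial.algHom_ext fun i => ?_
        show IsLocalRing.residue S (Subalgebra.inclusion hC (G (algebraMap _ P (MvPolynomial.X i)))) = _
        rw [hG, MvPolynomial.aeval_X]
        exact hs i
      exact DFunLike.congr_fun this p
    intro x hx
    obtain ⟨p, hp⟩ := exists_special_surjective (AlgHom.id R P) Function.surjective_id x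
    have hq0 : ∀ y ∈ q, ρ y = 0 := by
      intro y hy
      suffices q ≤ RingHom.ker ρ.toRingHom from this hy
      refine Ideal.map_le_iff_le_comap.mpr fun r hr => ?_
      show ρ (algebraMap R P r) = 0
      rw [AlgHom.commutes, IsScalarTower.algebraMap_apply R (R ⧸ m) kS,
        Ideal.Quotient.algebraMap_eq, Ideal.Quotient.eq_zero_iff_mem.mpr hr, map_zero]
    have h1 : ρ (algebraMap _ P p) = 0 := by
      have h2 := hq0 _ hp
      rw [map_sub, sub_eq_zero] at h2
      have h3 : ρ x = 0 := by
        show IsLocalRing.residue S (Subalgebra.inclusion hC (G x)) = 0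
        rw [show G x = 0 from hx, map_zero, map_zero]
      exact h2.symm.trans h3
    rw [hagree] at h1
    have h4 := Ideal.Quotient.eq_zero_iff_mem.mp ((map_eq_zero_iff _ σ.toRingHom.injective).mp h1)
    have := M.add_mem (hqM hp) h4
    rwa [AlgHom.id_apply, sub_add_cancel] at this
  · rw [RingHom.mem_ker] at h
    exact ht (FaithfulSMul.algebraMap_injective R C (((G.commutes t).symm.trans h).trans (map_zero _).symm))
  · rw [ringKrullDim_eq_of_ringEquiv (RingHom.quotientKerEquivOfSurjective (f := G.toRingHom) hGs)]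
    exact ringKrullDim_eq_one_of_isIntegral ht htu C

end Groth.Agent.Lib.RigH7
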