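import Groth.Agent.Lib.RigH7.DimOne

/-! Finiteness of rig-point algebras and the Noether normalisation lift. -/

universe u v

namespace Groth.Agent.Lib.RigH7

variable {R : Type u} [CommRing R] [IsDomain R] [ValuationRing R] [Ring.KrullDimLE 1 R] {t : R}

theorem mem_maximalIdeal_map {A : Type v} [CommRing A] [Algebra R A] (htu : ¬ IsUnit t) (y : A) :
    t • y ∈ (IsLocalRing.maximalIdeal R).map (algebraMap R A) := by
  rw [Algebra.smul_def]
  exact Ideal.mul_mem_right _ _ (Ideal.mem_map_of_mem _ htu)

variable [IsAdicComplete (Ideal.span {t}) R]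

/-- The special fibre is generated by the images of the variables. -/
theorem exists_special_surjective {A : Type u} [CommRing A] [Algebra R A] {n : ℕ}
    (φ : AdicRing.RPow R (Ideal.span {t}) n →ₐ[R] A) (hφ : Function.Surjective φ) (a : A) :
    ∃ p : MvPolynomial (Fin n) R,
      a - φ (algebraMap _ _ p) ∈ (IsLocalRing.maximalIdeal R).map (algebraMap R A) := by
  obtain ⟨x, rfl⟩ := hφ a
  obtain ⟨p, hp⟩ := exists_sub_mem (R := R) (C := MvPolynomial (Fin n) R)
    (I := Ideal.span {t}) (Submodule.fg_span_singleton t) x 1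
  have hp2 : x - algebraMap _ _ p ∈
      Ideal.span {algebraMap R (AdicRing.RPow R (Ideal.span {t}) n) t} :=
    (map_span_singleton' _ t).le (by rwa [pow_one] at hp)
  obtain ⟨z, hz⟩ := Ideal.mem_span_singleton.mp hp2
  refine ⟨p, ?_⟩
  rw [← map_sub, hz, map_mul, AlgHom.commutes, ← Algebra.smul_def]
  exact mem_maximalIdeal_map (not_isUnit_of_isAdicComplete (t := t)) _

/-- `A` is finite over `R` as soon as every prime containing `t` is maximal. -/
theorem finite_of_forall_isMaximal (ht : t ≠ 0) {A : Type u} [CommRing A] [Algebra R A]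
    (hA : AdicRing.TopFiniteType R (Ideal.span {t}) A)
    (h : ∀ p : Ideal A, p.IsPrime → algebraMap R A t ∈ p → p.IsMaximal) : Module.Finite R A := by
  classical
  obtain ⟨n, φ, hφ⟩ := hA
  have htu : ¬ IsUnit t := not_isUnit_of_isAdicComplete
  set m := IsLocalRing.maximalIdeal R
  letI := Ideal.Quotient.field m
  let mA := m.map (algebraMap R A)
  haveI : Algebra.FiniteType R (A ⧸ mA) :=
    Algebra.FiniteType.of_surjective (A := MvPolynomial (Fin n) R)
      (((Ideal.Quotient.mkₐ R mA).comp φ).comp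
        (IsScalarTower.toAlgHom R (MvPolynomial (Fin n) R) (AdicRing.RPow R (Ideal.span {t}) n)))
      fun y => by
        obtain ⟨a, rfl⟩ := Ideal.Quotient.mk_surjective y
        obtain ⟨p, hp⟩ := exists_special_surjective φ hφ a
        exact ⟨p, (Ideal.Quotient.eq.mpr hp).symm⟩
  haveI : Algebra.FiniteType (R ⧸ m) (A ⧸ mA) := Algebra.FiniteType.of_restrictScalars_finiteType R _ _
  haveI : IsArtinianRing (R ⧸ m) := inferInstance
  haveI : Ring.KrullDimLE 0 (A ⧸ mA) := .mk₀ fun q hq => by
    haveI := hq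
    have htA : algebraMap R A t ∈ mA := Ideal.mem_map_of_mem _ htu
    have h' := h (q.comap (Ideal.Quotient.mk mA)) inferInstance
      (show Ideal.Quotient.mk mA _ ∈ q by
        rw [Ideal.Quotient.eq_zero_iff_mem.mpr htA]; exact q.zero_mem)
    rw [← Ideal.map_comap_of_surjective _ Ideal.Quotient.mk_surjective q]
    exact (Ideal.map_eq_top_or_isMaximal_of_surjective _ Ideal.Quotient.mk_surjective h').resolve_left
      (by rw [Ideal.map_comap_of_surjective _ Ideal.Quotient.mk_surjective q]; exact hq.ne_top)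
  haveI : Module.Finite (R ⧸ m) (A ⧸ mA) := (Module.finite_iff_krullDimLE_zero (R := R ⧸ m) (A := A ⧸ mA)).mpr inferInstance
  haveI : Module.Finite R (A ⧸ mA) := Module.Finite.trans (R ⧸ m) _
  obtain ⟨S₀, hS₀⟩ := (Module.Finite.fg_top : (⊤ : Submodule R (A ⧸ mA)).FG)
  choose lift hlift using Ideal.Quotient.mk_surjective (I := mA)
  haveI : IsAdicComplete (Ideal.span {algebraMap R R t}) R := by
    rw [Algebra.algebraMap_self_apply]; infer_instance
  refine finite_of_span_mod ht φ hφ (S₀.image lift) fun a => ?_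
  have ha : Ideal.Quotient.mk mA a ∈ (Submodule.span R (↑(S₀.image lift) : Set A)).map
      (Ideal.Quotient.mkₐ R mA).toLinearMap := by
    rw [Submodule.map_span]
    refine Submodule.span_mono ?_ (hS₀ ▸ Submodule.mem_top : Ideal.Quotient.mk mA a ∈ Submodule.span R (S₀ : Set _))
    intro s hs
    exact ⟨lift s, Finset.mem_image_of_mem _ hs, hlift s⟩
  obtain ⟨q, hq, hq'⟩ := ha
  exact ⟨q, hq, Ideal.Quotient.eq.mp hq'.symm⟩

theorem isMaximal_of_dim_one {B : Type v} [CommRing B] [IsDomain B] [Algebra R B]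
    (hdim : ringKrullDim B = 1) (h : algebraMap R B t ≠ 0) (p : Ideal B) [hp : p.IsPrime]
    (htp : algebraMap R B t ∈ p) : p.IsMaximal := by
  haveI : Ring.KrullDimLE 1 B := Ring.krullDimLE_iff.mpr hdim.le
  exact hp.isMaximal_of_ne_bot fun e => h (by rwa [e, Ideal.mem_bot] at htp)

theorem finite_of_dim_one (ht : t ≠ 0) {B : Type u} [CommRing B] [IsDomain B] [Algebra R B]
    (hB : AdicRing.Admissible R (Ideal.span {t}) B) (hdim : ringKrullDim B = 1) :
    Module.Finite R B ∧ FaithfulSMul R B := by
  have h0 := algebraMap_t_ne_zero hB.2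
  obtain ⟨n, φ, hφ, -⟩ := hB.1
  exact ⟨finite_of_forall_isMaximal ht ⟨n, φ, hφ⟩ fun p hp htp => isMaximal_of_dim_one hdim h0 p htp,
    faithfulSMul_of_algebraMap_ne_zero (not_isUnit_of_isAdicComplete (t := t)) h0⟩

omit [IsAdicComplete (Ideal.span {t}) R] in
theorem isAdicComplete_rPow' (n : ℕ) :
    IsAdicComplete (Ideal.span {algebraMap R (AdicRing.RPow R (Ideal.span {t}) n) t})
      (AdicRing.RPow R (Ideal.span {t}) n) := by
  have key : ∀ J : Ideal (AdicRing.RPow R (Ideal.span {t}) n), IsAdicComplete J _ →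
      J = Ideal.span {algebraMap R (AdicRing.RPow R (Ideal.span {t}) n) t} →
        IsAdicComplete (Ideal.span {algebraMap R (AdicRing.RPow R (Ideal.span {t}) n) t})
          (AdicRing.RPow R (Ideal.span {t}) n) := fun J h e => e ▸ h
  exact key _ (isAdicComplete_rPow (Submodule.fg_span_singleton t) n) (map_span_singleton' _ t)

/-- A nonzero restricted power series is a nonzero constant times one with a unit coefficient. -/
theorem exists_content (n : ℕ) (x : AdicRing.RPow R (Ideal.span {t}) n) (hx : x ≠ 0) :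
    ∃ (c e : R) (p : MvPolynomial (Fin n) R) (y : AdicRing.RPow R (Ideal.span {t}) n),
      c ≠ 0 ∧ ¬ IsUnit e ∧ (∃ s, IsUnit (p.coeff s)) ∧
        x = c • (algebraMap _ _ p + e • y) := by
  classical
  haveI := isAdicComplete_rPow' (R := R) (t := t) n
  obtain ⟨k, hk⟩ : ∃ k, x ∉ Ideal.span {algebraMap R (AdicRing.RPow R (Ideal.span {t}) n) t ^ k} := by
    by_contra hh
    push Not at hh
    refine hx (IsHausdorff.haus' (I := Ideal.span {algebraMap R (AdicRing.RPow R (Ideal.span {t}) n) t}) x fun k => ?_)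
    rw [SModEq.zero, smul_eq_mul, Ideal.mul_top, Ideal.span_singleton_pow]
    exact hh k
  obtain ⟨p, hp⟩ := exists_sub_mem (R := R) (C := MvPolynomial (Fin n) R)
    (I := Ideal.span {t}) (Submodule.fg_span_singleton t) x k
  have hp' : x - algebraMap _ _ p ∈
      Ideal.span {algebraMap R (AdicRing.RPow R (Ideal.span {t}) n) t ^ k} := by
    rw [← Ideal.span_singleton_pow]
    exact (Ideal.pow_right_mono (map_span_singleton' _ t).le k) hp
  obtain ⟨z, hz⟩ := Ideal.mem_span_singleton'.mp hp'
  have hne : p.support.Nonempty := by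
    rw [Finset.nonempty_iff_ne_empty, Ne, MvPolynomial.support_eq_empty]
    rintro rfl
    exact hk (by simpa using hp')
  obtain ⟨i, hi, hdvd⟩ := exists_dvd_all p.support (fun j => p.coeff j) hne
  obtain ⟨p₁, hp₁⟩ := (MvPolynomial.C_dvd_iff_dvd_coeff (p.coeff i) p).mpr fun j => by
    by_cases hj : j ∈ p.support
    · exact hdvd j hj
    · rw [MvPolynomial.notMem_support_iff.mp hj]; exact dvd_zero _
  have hc0 : p.coeff i ≠ 0 := MvPolynomial.mem_support_iff.mp hi
  have h1 : IsUnit (p₁.coeff i) := by
    have h1 : p.coeff i = p.coeff i * p₁.coeff i := by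
      conv_lhs => rw [hp₁, MvPolynomial.coeff_C_mul]
    rw [show p₁.coeff i = 1 from mul_left_cancel₀ hc0 (by rw [mul_one, ← h1])]
    exact isUnit_one
  have halg : algebraMap (MvPolynomial (Fin n) R) (AdicRing.RPow R (Ideal.span {t}) n) p =
      p.coeff i • algebraMap _ _ p₁ := by
    conv_lhs => rw [hp₁]
    rw [map_mul, Algebra.smul_def]
    exact congrArg (· * _) (IsScalarTower.algebraMap_apply R (MvPolynomial (Fin n) R)
      (AdicRing.RPow R (Ideal.span {t}) n) (p.coeff i)).symm
  obtain ⟨d, hd | hd⟩ := PreValuationRing.cond (p.coeff i) (t ^ k)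
  · refine ⟨p.coeff i, d, p₁, z, hc0, fun hu => hk ?_, ⟨i, h1⟩, ?_⟩
    · have hxd : x = algebraMap _ _ p + z * algebraMap R (AdicRing.RPow R (Ideal.span {t}) n) t ^ k := by
        rw [hz]; abel
      rw [hxd, halg]
      refine Ideal.add_mem _ ?_ (Ideal.mul_mem_left _ _ (Ideal.mem_span_singleton_self _))
      obtain ⟨d', hd'⟩ := hu.exists_right_inv
      rw [show p.coeff i = t ^ k * d' by rw [← hd, mul_assoc, hd', mul_one], Algebra.smul_def,
        map_mul, map_pow, mul_assoc]
      exact Ideal.mul_mem_right _ _ (Ideal.mem_span_singleton_self _)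
    · rw [smul_add, ← halg, smul_smul, congrArg (· • z) hd, Algebra.smul_def, map_pow, mul_comm, hz]
      abel
  · refine absurd ?_ hk
    have hxd : x = algebraMap _ _ p + z * algebraMap R (AdicRing.RPow R (Ideal.span {t}) n) t ^ k := by
      rw [hz]; abel
    rw [hxd, halg, ← hd, Algebra.smul_def, map_mul, map_pow, mul_assoc]
    exact Ideal.add_mem _ (Ideal.mul_mem_right _ _ (Ideal.mem_span_singleton_self _))
      (Ideal.mul_mem_left _ _ (Ideal.mem_span_singleton_self _))

/-- A domain topologically of finite type in which every nonzero prime contains `t` is finite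
over `R`. -/
theorem finite_of_forall_mem (ht : t ≠ 0) {B : Type u} [CommRing B] [IsDomain B] [Algebra R B]
    (hB : AdicRing.TopFiniteType R (Ideal.span {t}) B) (h0 : algebraMap R B t ≠ 0)
    (h : ∀ p : Ideal B, p.IsPrime → p ≠ ⊥ → algebraMap R B t ∈ p) : Module.Finite R B := by
  classical
  have htu : ¬ IsUnit t := not_isUnit_of_isAdicComplete
  haveI := faithfulSMul_of_algebraMap_ne_zero htu h0
  have hB' := hB
  obtain ⟨n, φ, hφ⟩ := hB
  set m := IsLocalRing.maximalIdeal R
  letI := Ideal.Quotient.field m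
  let mB := m.map (algebraMap R B)
  by_cases htop : mB = ⊤
  · refine finite_of_forall_isMaximal ht hB' fun p hp htp => ?_
    exact absurd (top_le_iff.mp (htop ▸ map_maximalIdeal_le ht htp)) hp.ne_top
  haveI : Nontrivial (B ⧸ mB) := Ideal.Quotient.nontrivial_iff.mpr htop
  haveI : Algebra.FiniteType R (B ⧸ mB) :=
    Algebra.FiniteType.of_surjective (A := MvPolynomial (Fin n) R)
      (((Ideal.Quotient.mkₐ R mB).comp φ).comp
        (IsScalarTower.toAlgHom R (MvPolynomial (Fin n) R) (AdicRing.RPow R (Ideal.span {t}) n)))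
      fun y => by
        obtain ⟨a, rfl⟩ := Ideal.Quotient.mk_surjective y
        obtain ⟨p, hp⟩ := exists_special_surjective φ hφ a
        exact ⟨p, (Ideal.Quotient.eq.mpr hp).symm⟩
  haveI : Algebra.FiniteType (R ⧸ m) (B ⧸ mB) := Algebra.FiniteType.of_restrictScalars_finiteType R _ _
  obtain ⟨d, g, hginj, hgfin⟩ := exists_finite_inj_algHom_of_fg (R ⧸ m) (B ⧸ mB)
  choose lift hlift using Ideal.Quotient.mk_surjective (I := mB)
  haveI : IsAdicComplete ((Ideal.span {t}).map (algebraMap R B)) B := by
    haveI := isAdicComplete_of_topFiniteType (isBase_of ht) hB' B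
    exact (isAdicComplete_iff _ B).mpr
      ⟨(IsHausdorff.map_algebraMap_iff (S := B)).mpr inferInstance,
        (IsPrecomplete.map_algebraMap_iff (S := B)).mpr inferInstance⟩
  obtain ⟨G, hG⟩ : ∃ G : AdicRing.RPow R (Ideal.span {t}) d →ₐ[R] B,
      ∀ c : MvPolynomial (Fin d) R, G (algebraMap (MvPolynomial (Fin d) R) _ c) =
        MvPolynomial.aeval (fun i : Fin d => lift (g (MvPolynomial.X i))) c :=
    exists_lift (I := Ideal.span {t})
      (MvPolynomial.aeval (R := R) fun i : Fin d => lift (g (MvPolynomial.X i)))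
  have hcompat : ∀ p : MvPolynomial (Fin d) R, Ideal.Quotient.mk mB
      (MvPolynomial.aeval (fun i : Fin d => lift (g (MvPolynomial.X i))) p) =
        g (MvPolynomial.map (Ideal.Quotient.mk m) p) := by
    intro p
    induction p using MvPolynomial.induction_on with
    | C r =>
      rw [MvPolynomial.aeval_C, MvPolynomial.map_C, ← MvPolynomial.algebraMap_eq, AlgHom.commutes]
      rfl
    | add p q hp hq => simp only [map_add, hp, hq]
    | mul_X p i hp => simp only [map_mul, hp, MvPolynomial.aeval_X, MvPolynomial.map_X, hlift]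
  let P := AdicRing.RPow R (Ideal.span {t}) d
  letI : Algebra P B := G.toRingHom.toAlgebra
  haveI : IsScalarTower R P B := IsScalarTower.of_algebraMap_eq fun r => (G.commutes r).symm
  haveI : IsAdicComplete (Ideal.span {algebraMap R P t}) P := isAdicComplete_rPow' d
  -- `G` is injective
  have hGinj : Function.Injective G := by
    rw [injective_iff_map_eq_zero]
    intro x hx
    by_contra hx0
    obtain ⟨c, e, p, y, hc, he, ⟨s, hs⟩, rfl⟩ := exists_content d x hx0
    rw [map_smul, Algebra.smul_def] at hx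
    have h1 := (mul_eq_zero.mp hx).resolve_left
      ((map_ne_zero_iff _ (FaithfulSMul.algebraMap_injective R B)).mpr hc)
    rw [map_add, map_smul] at h1
    have h2 := congrArg (Ideal.Quotient.mk mB) h1
    have he' : Ideal.Quotient.mk mB (e • G y) = 0 := by
      rw [Ideal.Quotient.eq_zero_iff_mem, Algebra.smul_def]
      exact Ideal.mul_mem_right _ _ (Ideal.mem_map_of_mem _ he)
    have h3 : G (algebraMap (MvPolynomial (Fin d) R) P p) =
        MvPolynomial.aeval (fun i : Fin d => lift (g (MvPolynomial.X i))) p := hG p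
    rw [map_add, he', add_zero, map_zero, h3, hcompat] at h2
    have h4 : MvPolynomial.map (Ideal.Quotient.mk m) p = 0 := hginj (by rw [h2, map_zero])
    have h5 := congrArg (MvPolynomial.coeff s) h4
    rw [MvPolynomial.coeff_map, MvPolynomial.coeff_zero, Ideal.Quotient.eq_zero_iff_mem] at h5
    exact h5 hs
  -- `B` is finite over `P`
  haveI : Module.Finite P B := by
    letI : Algebra (MvPolynomial (Fin d) (R ⧸ m)) (B ⧸ mB) := g.toRingHom.toAlgebra
    haveI : Module.Finite (MvPolynomial (Fin d) (R ⧸ m)) (B ⧸ mB) := hgfin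
    obtain ⟨S₀, hS₀⟩ := (Module.Finite.fg_top :
      (⊤ : Submodule (MvPolynomial (Fin d) (R ⧸ m)) (B ⧸ mB)).FG)
    refine finite_of_span_mod ht φ hφ (S₀.image lift) fun a => ?_
    have : ∀ y ∈ Submodule.span (MvPolynomial (Fin d) (R ⧸ m)) (S₀ : Set (B ⧸ mB)),
        ∃ q ∈ Submodule.span P (↑(S₀.image lift) : Set B), Ideal.Quotient.mk mB q = y := by
      intro y hy
      induction hy using Submodule.span_induction with
      | mem s hs => exact ⟨lift s, Submodule.subset_span (Finset.mem_image_of_mem _ hs), hlift s⟩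
      | zero => exact ⟨0, Submodule.zero_mem _, map_zero _⟩
      | add u v _ _ hu hv =>
        obtain ⟨a, ha, rfl⟩ := hu
        obtain ⟨b, hb, rfl⟩ := hv
        exact ⟨a + b, Submodule.add_mem _ ha hb, map_add _ _ _⟩
      | smul r u _ hu =>
        obtain ⟨a, ha, rfl⟩ := hu
        obtain ⟨r', rfl⟩ := MvPolynomial.map_surjective (Ideal.Quotient.mk m)
          Ideal.Quotient.mk_surjective r
        refine ⟨algebraMap (MvPolynomial (Fin d) R) P r' • a, Submodule.smul_mem _ _ ha, ?_⟩
        show Ideal.Quotient.mk mB (G (algebraMap (MvPolynomial (Fin d) R) P r') * a) =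
          g (MvPolynomial.map (Ideal.Quotient.mk m) r') * Ideal.Quotient.mk mB a
        rw [map_mul, show G (algebraMap (MvPolynomial (Fin d) R) P r') = _ from hG r', hcompat]
    obtain ⟨q, hq, hq'⟩ := this (Ideal.Quotient.mk mB a) (hS₀ ▸ Submodule.mem_top)
    exact ⟨q, hq, Ideal.Quotient.eq.mp hq'.symm⟩
  -- `d = 0`
  rcases Nat.eq_zero_or_pos d with rfl | hd
  · haveI : Module.Finite R P := by
      haveI : IsAdicComplete ((Ideal.span {t}).map (algebraMap R R)) R := by
        rw [Algebra.algebraMap_self, Ideal.map_id]; infer_instance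
      obtain ⟨G0, -⟩ : ∃ G0 : P →ₐ[R] R, ∀ c : MvPolynomial (Fin 0) R,
          G0 (algebraMap (MvPolynomial (Fin 0) R) _ c) =
            MvPolynomial.aeval (Fin.elim0 : Fin 0 → R) c :=
        exists_lift (I := Ideal.span {t})
          (MvPolynomial.aeval (R := R) (Fin.elim0 : Fin 0 → R))
      refine Module.Finite.of_surjective (Algebra.linearMap R P) fun x => ⟨G0 x, ?_⟩
      haveI := isAdicComplete_rPow (R := R) (I := Ideal.span {t}) (Submodule.fg_span_singleton t) 0
      refine DFunLike.congr_fun (hom_ext (R := R) (B := P) (Submodule.fg_span_singleton t)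
        (G := (IsScalarTower.toAlgHom R R P).comp G0) (G' := AlgHom.id R P) fun c => ?_) x
      have hc : algebraMap (MvPolynomial (Fin 0) R) P c = algebraMap R P (c.coeff 0) := by
        conv_lhs => rw [MvPolynomial.eq_C_of_isEmpty c]
        exact (IsScalarTower.algebraMap_apply R (MvPolynomial (Fin 0) R) P _).symm
      exact (congrArg _ hc).trans ((AlgHom.commutes _ _).trans
        ((AlgHom.commutes (AlgHom.id R P) _).symm.trans (congrArg _ hc).symm))
    exact Module.Finite.trans P B
  · exfalso
    haveI : IsAdicComplete ((Ideal.span {t}).map (algebraMap R R)) R := by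
      rw [Algebra.algebraMap_self, Ideal.map_id]; infer_instance
    obtain ⟨G0, hG0⟩ : ∃ G0 : P →ₐ[R] R, ∀ c : MvPolynomial (Fin d) R,
        G0 (algebraMap (MvPolynomial (Fin d) R) _ c) =
          MvPolynomial.aeval (fun _ => 0 : Fin d → R) c :=
      exists_lift (I := Ideal.span {t})
        (MvPolynomial.aeval (R := R) (fun _ => 0 : Fin d → R))
    haveI := RingHom.ker_isPrime G0.toRingHom
    haveI : Algebra.IsIntegral P B := Algebra.IsIntegral.of_finite P B
    obtain ⟨Q, -, hQ, hQc⟩ := Ideal.exists_ideal_over_prime_of_isIntegral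
      (RingHom.ker G0.toRingHom) (⊥ : Ideal B) (by
        intro x hx
        rw [Ideal.mem_comap, Ideal.mem_bot] at hx
        rw [show x = 0 from hGinj (hx.trans (map_zero G).symm)]
        exact Ideal.zero_mem _)
    let X0 : P := algebraMap (MvPolynomial (Fin d) R) P (MvPolynomial.X ⟨0, hd⟩)
    have hX0 : X0 ∈ RingHom.ker G0.toRingHom := by
      rw [RingHom.mem_ker]
      exact (hG0 _).trans (MvPolynomial.aeval_X _ _)
    rw [← hQc, Ideal.mem_comap] at hX0
    have hQ0 : Q ≠ ⊥ := fun e => by
      rw [e, Ideal.mem_bot] at hX0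
      have h4 : (MvPolynomial.X ⟨0, hd⟩ : MvPolynomial (Fin d) (R ⧸ m)) = 0 := hginj (by
        rw [map_zero, ← MvPolynomial.map_X (Ideal.Quotient.mk m), ← hcompat, ← hG]
        exact (congrArg (Ideal.Quotient.mk mB) hX0).trans (map_zero _))
      exact MvPolynomial.X_ne_zero _ h4
    have htQ := h Q hQ hQ0
    rw [IsScalarTower.algebraMap_apply R P B, ← Ideal.mem_comap, hQc, RingHom.mem_ker] at htQ
    exact ht ((G0.commutes t).symm.trans htQ)

end Groth.Agent.Lib.RigH7
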