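import Groth.Agent.Lib.RigH7.VBase

/-! A finiteness criterion for algebras topologically of finite type over a complete valuation
ring of height one. -/

universe u

namespace Groth.Agent.Lib.RigH7

variable {R : Type u} [CommRing R] [IsDomain R] [ValuationRing R] [Ring.KrullDimLE 1 R] {t : R}
  [IsAdicComplete (Ideal.span {t}) R]

theorem finite_of_span_mod (ht : t ≠ 0) {P' : Type u} [CommRing P'] [Algebra R P']
    [IsAdicComplete (Ideal.span {algebraMap R P' t}) P']
    {A : Type u} [CommRing A] [Algebra R A] [Algebra P' A] [IsScalarTower R P' A]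
    {n : ℕ} (φ : AdicRing.RPow R (Ideal.span {t}) n →ₐ[R] A) (hφ : Function.Surjective φ)
    (S : Finset A)
    (hS : ∀ a : A, ∃ q ∈ Submodule.span P' (S : Set A),
      a - q ∈ (IsLocalRing.maximalIdeal R).map (algebraMap R A)) :
    Module.Finite P' A := by
  classical
  have htu : ¬ IsUnit t := not_isUnit_of_isAdicComplete
  set N := Submodule.span P' (S : Set A)
  haveI hcomp : IsAdicComplete (Ideal.span {t}) A :=
    isAdicComplete_of_topFiniteType (isBase_of ht) (A := A) ⟨n, φ, hφ⟩ A
  let gen : Fin n → A := fun i => φ (algebraMap (MvPolynomial (Fin n) R) _ (MvPolynomial.X i))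
  let E : Finset A := insert 1 ((Finset.univ ×ˢ S).image fun p => gen p.1 * p.2)
  choose q hqN hq using hS
  choose rr hrr yy hyy using fun a => exists_nonunit_smul (hq a)
  obtain ⟨c, hc, hdvd⟩ := exists_common_dvd (insert t (E.image rr)) (by
    intro r hr
    rcases Finset.mem_insert.mp hr with rfl | hr
    · exact htu
    · obtain ⟨a, -, rfl⟩ := Finset.mem_image.mp hr
      exact hrr a)
  let W : Submodule P' A := N ⊔ (Ideal.span {algebraMap R A c}).restrictScalars P'
  have hcW : ∀ y : A, c • y ∈ W := fun y => Submodule.mem_sup_right (by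
    rw [Submodule.restrictScalars_mem, Algebra.smul_def]
    exact Ideal.mul_mem_right _ _ (Ideal.mem_span_singleton_self _))
  have hE : ∀ e ∈ E, e ∈ W := by
    intro e he
    obtain ⟨d, hd⟩ := hdvd (rr e) (Finset.mem_insert_of_mem (Finset.mem_image_of_mem _ he))
    have : e = q e + c • (d • yy e) := by rw [← mul_smul, ← hd, ← hyy e]; abel
    rw [this]
    exact W.add_mem (Submodule.mem_sup_left (hqN e)) (hcW _)
  have hXW : ∀ i, ∀ x ∈ W, gen i * x ∈ W := by
    intro i x hx
    obtain ⟨a, ha, b, hb, rfl⟩ := Submodule.mem_sup.mp hx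
    rw [mul_add]
    refine W.add_mem ?_ (Submodule.mem_sup_right (Ideal.mul_mem_left _ _ hb))
    clear hx
    induction ha using Submodule.span_induction with
    | mem s hs =>
      exact hE _ (Finset.mem_insert_of_mem (Finset.mem_image.mpr
        ⟨(i, s), Finset.mem_product.mpr ⟨Finset.mem_univ _, hs⟩, rfl⟩))
    | zero => rw [mul_zero]; exact W.zero_mem
    | add u v _ _ hu hv => rw [mul_add]; exact W.add_mem hu hv
    | smul r u _ hu => rw [mul_smul_comm]; exact W.smul_mem r hu
  have hpoly : ∀ p : MvPolynomial (Fin n) R, ∀ x ∈ W,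
      φ (algebraMap _ _ p) * x ∈ W := by
    intro p
    induction p using MvPolynomial.induction_on with
    | C r =>
      intro x hx
      have hC : algebraMap (MvPolynomial (Fin n) R) (AdicRing.RPow R (Ideal.span {t}) n)
          (MvPolynomial.C r) = algebraMap R _ r :=
        (IsScalarTower.algebraMap_apply R (MvPolynomial (Fin n) R)
          (AdicRing.RPow R (Ideal.span {t}) n) r).symm
      rw [hC, AlgHom.commutes, ← Algebra.smul_def]
      exact W.smul_of_tower_mem r hx
    | add p p' hp hp' =>
      intro x hx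
      rw [map_add, map_add, add_mul]
      exact W.add_mem (hp x hx) (hp' x hx)
    | mul_X p i hp =>
      intro x hx
      rw [map_mul, map_mul, mul_assoc]
      exact hp _ (hXW i x hx)
  have hWtop : ∀ a : A, a ∈ W := by
    intro a
    obtain ⟨x, rfl⟩ := hφ a
    obtain ⟨p, hp⟩ := exists_sub_mem (R := R) (C := MvPolynomial (Fin n) R)
      (I := Ideal.span {t}) (Submodule.fg_span_singleton t) x 1
    have hp2 : x - algebraMap _ _ p ∈
        Ideal.span {algebraMap R (AdicRing.RPow R (Ideal.span {t}) n) t} :=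
      (map_span_singleton' _ t).le (by rwa [pow_one] at hp)
    obtain ⟨z, hz⟩ := Ideal.mem_span_singleton.mp hp2
    obtain ⟨e, he⟩ := hdvd t (Finset.mem_insert_self _ _)
    have hx : x = algebraMap _ _ p + algebraMap R _ t * z := by rw [← hz]; abel
    rw [hx, map_add, map_mul, AlgHom.commutes, ← Algebra.smul_def,
      show t • φ z = c • (e • φ z) from by rw [← mul_smul]; exact congrArg (· • φ z) he]
    refine W.add_mem ?_ (hcW _)
    have := hpoly p 1 (hE 1 (Finset.mem_insert_self _ _))
    rwa [mul_one] at this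
  -- `A = N + c A`, hence `A = N + t A`
  have hstep : ∀ a : A, ∃ m ∈ N, ∃ y, a = m + c • y := by
    intro a
    obtain ⟨m, hm, b, hb, rfl⟩ := Submodule.mem_sup.mp (hWtop a)
    obtain ⟨y, rfl⟩ := Ideal.mem_span_singleton'.mp hb
    exact ⟨m, hm, y, by rw [Algebra.smul_def, mul_comm]⟩
  obtain ⟨K, hK⟩ := exists_pow_dvd ht hc
  have hiter : ∀ k : ℕ, ∀ a : A, ∃ m ∈ N, ∃ y, a = m + c ^ k • y := by
    intro k
    induction k with
    | zero => exact fun a => ⟨0, N.zero_mem, a, by simp⟩
    | succ k ih =>
      intro a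
      obtain ⟨m, hm, y, rfl⟩ := ih a
      obtain ⟨m', hm', y', rfl⟩ := hstep y
      refine ⟨m + c ^ k • m', N.add_mem hm (N.smul_of_tower_mem _ hm'), y', ?_⟩
      rw [smul_add, smul_smul, ← pow_succ, add_assoc]
  have hstept : ∀ a : A, ∃ (co : {s // s ∈ S} → P') (y : A), a = ∑ s, co s • (s : A) + t • y := by
    intro a
    obtain ⟨m, hm, y, rfl⟩ := hiter K a
    obtain ⟨co, hco⟩ := Submodule.mem_span_finset'.mp hm
    obtain ⟨d, hd⟩ := hK
    exact ⟨co, d • y, by rw [hco, ← mul_smul, ← hd]⟩
  choose co next hnext using hstept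
  suffices hspan : ∀ a : A, a ∈ N from ⟨⟨S, eq_top_iff.mpr fun a _ => hspan a⟩⟩
  intro a
  let y : ℕ → A := fun k => next^[k] a
  let T : {s // s ∈ S} → ℕ → P' := fun s k =>
    ∑ i ∈ Finset.range k, algebraMap R P' t ^ i * co (y i) s
  have hT : ∀ k, a = ∑ s, T s k • (s : A) + t ^ k • y k := by
    intro k
    induction k with
    | zero => simp [T, y]
    | succ k ih =>
      have hy : y (k + 1) = next (y k) := Function.iterate_succ_apply' _ _ _
      conv_lhs => rw [ih, hnext (y k)]
      simp only [T, Finset.sum_range_succ, add_smul, Finset.sum_add_distrib, smul_add,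
        Finset.smul_sum, mul_smul, ← map_pow, algebraMap_smul, pow_succ, hy]
      abel
  have hlim : ∀ s, ∃ L : P', ∀ k,
      T s k ≡ L [SMOD ((Ideal.span {algebraMap R P' t}) ^ k • ⊤ : Submodule P' P')] := by
    intro s
    refine IsPrecomplete.prec' (T s) fun {i j} hij => ?_
    rw [SModEq.sub_mem, smul_eq_mul, Ideal.mul_top, Ideal.span_singleton_pow, ← neg_sub,
      neg_mem_iff, ← Finset.sum_Ico_eq_sub _ hij]
    refine Submodule.sum_mem _ fun l hl => Ideal.mem_span_singleton.mpr ?_
    exact Dvd.dvd.mul_right (pow_dvd_pow _ (Finset.mem_Ico.mp hl).1) _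
  choose L hL using hlim
  have ha : a = ∑ s, L s • (s : A) := by
    rw [IsHausdorff.eq_iff_smodEq (I := Ideal.span {t})]
    intro k
    rw [SModEq.sub_mem]
    have hd : ∀ s, ∃ e, T s k - L s = algebraMap R P' t ^ k * e := fun s => by
      have := SModEq.sub_mem.mp (hL s k)
      rwa [smul_eq_mul, Ideal.mul_top, Ideal.span_singleton_pow, Ideal.mem_span_singleton] at this
    choose e he using hd
    refine mem_pow_smul_top.mpr ⟨∑ s, e s • (s : A) + y k, ?_⟩
    conv_lhs => rw [hT k]
    rw [add_sub_right_comm, ← Finset.sum_sub_distrib, smul_add, Finset.smul_sum]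
    congr 1
    refine Finset.sum_congr rfl fun s _ => ?_
    rw [← sub_smul, he, ← map_pow, mul_smul, algebraMap_smul]
  rw [ha]
  exact N.sum_mem fun s _ => N.smul_mem _ (Submodule.subset_span s.2)

end Groth.Agent.Lib.RigH7
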