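import Groth.Agent.Lib.RigH7.RPow
import Mathlib.RingTheory.AdicCompletion.AsTensorProduct

/-! Completion along `t` of rings with `FiniteSat t`: comparison with the tensor product,
flatness, completeness of finite modules. -/

universe u v
open TensorProduct

namespace Groth.Agent.Lib.RigH7

variable {C : Type u} [CommRing C] {t : C}

theorem mem_pow_smul_top {M : Type v} [AddCommGroup M] [Module C M] {n : ℕ} {x : M} :
    x ∈ ((Ideal.span {t}) ^ n • ⊤ : Submodule C M) ↔ ∃ z, x = t ^ n • z := by
  rw [Ideal.span_singleton_pow, Submodule.ideal_span_singleton_smul]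
  constructor
  · intro h
    obtain ⟨z, -, hz⟩ := (Submodule.mem_smul_pointwise_iff_exists _ _ _).mp h
    exact ⟨z, hz.symm⟩
  · rintro ⟨z, rfl⟩
    exact Submodule.smul_mem_pointwise_smul z _ _ trivial

theorem FiniteSat.mem_span_of_ker (h : FiniteSat t) {F M : Type u} [AddCommGroup F] [Module C F]
    [Module.Finite C F] [AddCommGroup M] [Module C M] (p : F →ₗ[C] M) (hp : Function.Surjective p)
    (y : AdicCompletion (Ideal.span {t}) F) (hy : AdicCompletion.map (Ideal.span {t}) p y = 0) :
    y ∈ Submodule.span (AdicCompletion (Ideal.span {t}) C)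
      (AdicCompletion.of (Ideal.span {t}) F '' (LinearMap.ker p : Set F)) := by
  classical
  revert hy
  apply AdicCompletion.induction_on (Ideal.span {t}) F y
  intro a hy
  have hk : ∀ n, ∃ k ∈ LinearMap.ker p, ∃ f, a n = k + t ^ n • f := by
    intro n
    have h1 : p (a n) ∈ ((Ideal.span {t}) ^ n • ⊤ : Submodule C M) := by
      have := congr_arg (fun z => z.val n) hy
      simpa using this
    obtain ⟨z, hz⟩ := mem_pow_smul_top.mp h1
    obtain ⟨f, rfl⟩ := hp z
    exact ⟨a n - t ^ n • f, by simp [hz], f, by abel⟩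
  choose k hkK f hf using hk
  have hdiff : ∀ n, ∃ e, k (n + 1) - k n = t ^ n • e := by
    intro n
    obtain ⟨z, hz⟩ := mem_pow_smul_top.mp (SModEq.sub_mem.mp (a.2 (Nat.le_succ n)))
    refine ⟨f n - t • f (n + 1) - z, ?_⟩
    have h1 : a n - a (n + 1) = t ^ n • z := hz
    rw [smul_sub, smul_sub, ← h1, smul_smul, ← pow_succ, hf n, hf (n + 1)]
    abel
  choose e he using hdiff
  obtain ⟨c, hc⟩ := h.exists_pow_satClosure (LinearMap.ker p)
  obtain ⟨S, hS⟩ := h.fg (isSat_satClosure t (LinearMap.ker p))
  have he' : ∀ n, ∃ r : {g // g ∈ S} → C, ∑ g, r g • (g : F) = e n := by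
    intro n
    refine Submodule.mem_span_finset'.mp (?_ : e n ∈ Submodule.span C (S : Set F))
    rw [hS]
    exact ⟨n, by rw [← he]; exact Submodule.sub_mem _ (hkK _) (hkK _)⟩
  choose r hr using he'
  let A : {g // g ∈ S} → AdicCompletion (Ideal.span {t}) C := fun g =>
    AdicCompletion.mk _ C (AdicCompletion.AdicCauchySequence.mk _ C
      (fun m => ∑ i ∈ Finset.range m, t ^ i * r (c + i) g) fun m => by
        rw [SModEq.sub_mem, mem_pow_smul_top, Finset.sum_range_succ]
        exact ⟨-r (c + m) g, by simp⟩)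
  have hkey : ∀ m, k (c + m) = k c + ∑ g : {g // g ∈ S},
      (∑ i ∈ Finset.range m, t ^ i * r (c + i) g) • (t ^ c • (g : F)) := by
    intro m
    induction m with
    | zero => simp
    | succ m ih =>
      rw [← add_assoc, eq_add_of_sub_eq' (he (c + m)), ih, ← hr (c + m), Finset.smul_sum, add_assoc,
        ← Finset.sum_add_distrib]
      congr 1
      refine Finset.sum_congr rfl fun g _ => ?_
      rw [Finset.sum_range_succ, add_smul, smul_smul, smul_smul, smul_smul, pow_add]
      congr 2; ring
  have heq : AdicCompletion.mk (Ideal.span {t}) F a =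
      AdicCompletion.of _ F (k c) + ∑ g, A g • AdicCompletion.of _ F (t ^ c • (g : F)) := by
    ext n
    simp only [AdicCompletion.val_add, Pi.add_apply, AdicCompletion.val_sum, Finset.sum_apply,
      AdicCompletion.smul_eval, AdicCompletion.mk_apply_coe, A]
    change Submodule.Quotient.mk (a n) = Submodule.Quotient.mk (k c) + ∑ g : {g // g ∈ S},
      Submodule.Quotient.mk ((∑ i ∈ Finset.range n, t ^ i * r (c + i) g) • (t ^ c • (g : F)))
    rw [← Submodule.mkQ_apply, ← Submodule.mkQ_apply]
    simp only [← Submodule.mkQ_apply]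
    rw [← map_sum, ← map_add, ← hkey, Submodule.mkQ_apply, Submodule.mkQ_apply, Submodule.Quotient.eq]
    have hK : k (c + n) - k n ∈ ((Ideal.span {t}) ^ n • ⊤ : Submodule C F) := by
      rw [add_comm c n]
      clear hkey
      induction c with
      | zero => simp
      | succ d _ =>
        clear * - he
        induction d + 1 with
        | zero => simp
        | succ d ih =>
          have h1 : k (n + (d + 1)) - k n = (k (n + d + 1) - k (n + d)) + (k (n + d) - k n) := by
            rw [← add_assoc]; abel
          rw [h1, he]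
          exact Submodule.add_mem _ (mem_pow_smul_top.mpr ⟨t ^ d • e (n + d), by rw [smul_smul, ← pow_add]⟩) ih
    have h2 : a n - k (c + n) = t ^ n • f n - (k (c + n) - k n) := by rw [hf n]; abel
    rw [h2]
    exact Submodule.sub_mem _ (mem_pow_smul_top.mpr ⟨_, rfl⟩) hK
  rw [heq]
  refine Submodule.add_mem _ (Submodule.subset_span ⟨_, hkK c, rfl⟩)
    (Submodule.sum_mem _ fun g _ => Submodule.smul_mem _ _ (Submodule.subset_span ⟨_, ?_, rfl⟩))
  exact hc _ (hS ▸ Submodule.subset_span g.2)

theorem FiniteSat.ofTensorProduct_bijective (h : FiniteSat t) (M : Type u) [AddCommGroup M]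
    [Module C M] [Module.Finite C M] :
    Function.Bijective (AdicCompletion.ofTensorProduct (Ideal.span {t}) M) := by
  refine ⟨?_, AdicCompletion.ofTensorProduct_surjective_of_finite _ M⟩
  rw [injective_iff_map_eq_zero]
  intro z hz
  set Ch := AdicCompletion (Ideal.span {t}) C
  obtain ⟨n, p, hp⟩ := Module.Finite.exists_fin' C M
  let bp := p.baseChange Ch
  obtain ⟨w, rfl⟩ := LinearMap.lTensor_surjective Ch hp z
  have hn : AdicCompletion.map (Ideal.span {t}) p
      (AdicCompletion.ofTensorProduct (Ideal.span {t}) (Fin n → C) w) = 0 := by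
    rw [← LinearMap.comp_apply, AdicCompletion.ofTensorProduct_naturality, LinearMap.comp_apply]
    exact hz
  have hspan := h.mem_span_of_ker p hp _ hn
  have hle : Submodule.span Ch (AdicCompletion.of (Ideal.span {t}) (Fin n → C) '' (LinearMap.ker p : Set _)) ≤
      (LinearMap.ker (p.baseChange Ch)).map (AdicCompletion.ofTensorProduct (Ideal.span {t}) (Fin n → C)) := by
    rw [Submodule.span_le]
    rintro _ ⟨x, hx, rfl⟩
    exact ⟨1 ⊗ₜ[C] x, by simp [LinearMap.mem_ker.mp hx], by simp⟩
  obtain ⟨w', hw', hww⟩ := hle hspan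
  rw [(AdicCompletion.ofTensorProduct_bijective_of_pi_of_fintype _ (Fin n)).injective hww] at hw'
  exact hw'

theorem FiniteSat.map_injective (h : FiniteSat t) {M N : Type u} [AddCommGroup M] [Module C M]
    [AddCommGroup N] [Module C N] [Module.Finite C N] {f : M →ₗ[C] N} (hf : Function.Injective f) :
    Function.Injective (AdicCompletion.map (Ideal.span {t}) f) := by
  obtain ⟨c, hc⟩ := h.artinRees (LinearMap.range f)
  rw [injective_iff_map_eq_zero]
  intro x
  apply AdicCompletion.induction_on (Ideal.span {t}) M x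
  intro a hx
  ext n
  have h1 : f (a (n + c)) ∈ ((Ideal.span {t}) ^ (n + c) • ⊤ : Submodule C N) := by
    have := congr_arg (fun z => z.val (n + c)) hx
    simpa using this
  obtain ⟨z, hz⟩ := mem_pow_smul_top.mp h1
  obtain ⟨_, ⟨b, rfl⟩, hb⟩ := hc n z (hz ▸ ⟨_, rfl⟩)
  rw [← map_smul, ← hz] at hb
  simp only [AdicCompletion.mk_apply_coe, AdicCompletion.val_zero, Pi.zero_apply]
  rw [← sub_zero (Submodule.mkQ _ (a n)), ← map_zero (Submodule.mkQ _), ← map_sub, sub_zero]
  change Submodule.Quotient.mk (a n) = 0
  rw [Submodule.Quotient.mk_eq_zero, show a n = (a n - a (n + c)) + a (n + c) by abel]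
  exact Submodule.add_mem _ (SModEq.sub_mem.mp (a.2 (Nat.le_add_right n c)))
    (mem_pow_smul_top.mpr ⟨b, hf hb⟩)

theorem FiniteSat.flat_completion (h : FiniteSat t) :
    Module.Flat C (AdicCompletion (Ideal.span {t}) C) := by
  refine Module.Flat.iff_lTensor_injective.mpr fun J hJ => ?_
  haveI : Module.Finite C J := Module.Finite.iff_fg.mpr hJ
  intro x y hxy
  apply (h.ofTensorProduct_bijective J).injective
  apply h.map_injective (f := J.subtype) (Submodule.injective_subtype J)
  rw [← LinearMap.comp_apply, ← LinearMap.comp_apply, AdicCompletion.ofTensorProduct_naturality]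
  exact congr_arg (AdicCompletion.ofTensorProduct (Ideal.span {t}) C) hxy

theorem FiniteSat.isAdicComplete (h : FiniteSat t) [IsAdicComplete (Ideal.span {t}) C] (M : Type u)
    [AddCommGroup M] [Module C M] [Module.Finite C M] : IsAdicComplete (Ideal.span {t}) M := by
  rw [← AdicCompletion.of_bijective_iff]
  have e : AdicCompletion.of (Ideal.span {t}) M = fun x =>
      AdicCompletion.ofTensorProduct (Ideal.span {t}) M (1 ⊗ₜ[C] x) := by
    funext x; simp
  rw [show (⇑(AdicCompletion.of (Ideal.span {t}) M)) = _ from e]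
  refine (h.ofTensorProduct_bijective M).comp ?_
  let i : C ≃ₐ[C] AdicCompletion (Ideal.span {t}) C :=
    (AdicCompletion.ofAlgEquiv (Ideal.span {t}))
  have : (fun x : M => (1 : AdicCompletion (Ideal.span {t}) C) ⊗ₜ[C] x) =
      (TensorProduct.congr i.toLinearEquiv (LinearEquiv.refl C M)) ∘ (TensorProduct.lid C M).symm := by
    funext x; simp
  change Function.Bijective fun x : M => (1 : AdicCompletion (Ideal.span {t}) C) ⊗ₜ[C] x
  rw [this]
  exact (TensorProduct.congr i.toLinearEquiv (LinearEquiv.refl C M)).bijective.comp (TensorProduct.lid C M).symm.bijective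

end Groth.Agent.Lib.RigH7
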