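import Groth.Agent.Lib.RigH7.Trunc
import Mathlib.RingTheory.Finiteness.FinitePresentationLocal

/-! Truncations of algebras topologically of finite type or presentation, and gluing along
complete localisations. -/

universe u v w

namespace Groth.Agent.Lib.RigH7

variable {R : Type u} [CommRing R] {I : Ideal R}

theorem isAdicComplete_of_pow_eq_bot {B : Type v} [CommRing B] {J : Ideal B} {m : ℕ}
    (h : J ^ m = ⊥) : IsAdicComplete J B := by
  refine (isAdicComplete_iff J B).mpr ⟨⟨fun x hx => ?_⟩, ⟨fun f hf => ⟨f m, fun k => ?_⟩⟩⟩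
  · have := hx m
    rwa [h, SModEq.zero, Submodule.bot_smul, Submodule.mem_bot] at this
  · rcases le_total k m with hk | hk
    · exact hf hk
    · have := hf hk
      rw [h, Submodule.bot_smul, SModEq.sub_mem, Submodule.mem_bot, sub_eq_zero] at this
      rw [this]

theorem isAdicComplete_trunc (A : Type u) [CommRing A] [Algebra R A] (D : Type v) [CommRing D]
    [Algebra R D] [Algebra A D] [IsScalarTower R A D] (n : ℕ)
    (hD : ∀ a ∈ (I ^ (n + 1)).map (algebraMap R A), algebraMap A D a = 0) :
    IsAdicComplete (I.map (algebraMap R D)) D := by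
  refine isAdicComplete_of_pow_eq_bot (m := n + 1) ?_
  rw [← Ideal.map_pow, eq_bot_iff, Ideal.map_le_iff_le_comap]
  intro r hr
  rw [Ideal.mem_comap, Submodule.mem_bot, IsScalarTower.algebraMap_apply R A D]
  exact hD _ (Ideal.mem_map_of_mem _ hr)

/-- The map from polynomials to a truncation of restricted power series has the expected kernel. -/
theorem mem_map_pow_of_algebraMap_mem (k m : ℕ) (p : MvPolynomial (Fin k) R)
    (h : algebraMap (MvPolynomial (Fin k) R) (AdicRing.RPow R I k) p ∈
      (I ^ m).map (algebraMap R (AdicRing.RPow R I k))) :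
    p ∈ (I ^ m).map (MvPolynomial.C : R →+* MvPolynomial (Fin k) R) := by
  let J := I.map (MvPolynomial.C : R →+* MvPolynomial (Fin k) R)
  have hle : (I ^ m).map (algebraMap R (AdicRing.RPow R I k)) ≤
      RingHom.ker (AdicCompletion.evalₐ J m).toRingHom := by
    refine Ideal.map_le_iff_le_comap.mpr fun r hr => ?_
    rw [Ideal.mem_comap, RingHom.mem_ker, AlgHom.toRingHom_eq_coe, RingHom.coe_coe,
      AdicCompletion.algebraMap_apply, AdicCompletion.evalₐ_of, Ideal.Quotient.eq_zero_iff_mem,
      ← Ideal.map_pow]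
    exact Ideal.mem_map_of_mem _ hr
  have h2 := hle h
  rw [RingHom.mem_ker, AlgHom.toRingHom_eq_coe, RingHom.coe_coe, AdicCompletion.algebraMap_apply,
    AdicCompletion.evalₐ_of, Ideal.Quotient.eq_zero_iff_mem, ← Ideal.map_pow] at h2
  exact h2

theorem exists_sub_mem_trunc (hI : I.FG) (k n : ℕ) (x : AdicRing.RPow R I k) :
    ∃ p : MvPolynomial (Fin k) R, x - algebraMap _ _ p ∈
      (I ^ (n + 1)).map (algebraMap R (AdicRing.RPow R I k)) := by
  obtain ⟨p, hp⟩ := exists_sub_mem (R := R) (C := MvPolynomial (Fin k) R) hI x (n + 1)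
  exact ⟨p, (Ideal.map_pow _ _ _).ge hp⟩

theorem finitePresentation_quotientMap_iff (hI : I.FG) (A : Type u) [CommRing A] [Algebra R A]
    (n : ℕ) :
    (Ideal.quotientMap ((I ^ (n + 1)).map (algebraMap R A)) (algebraMap R A)
        (Ideal.le_comap_map (I := I ^ (n + 1)))).FinitePresentation ↔
      Algebra.FinitePresentation R (AdicRing.trunc A I n) := by
  letI := (Ideal.quotientMap ((I ^ (n + 1)).map (algebraMap R A)) (algebraMap R A)
    (Ideal.le_comap_map (I := I ^ (n + 1)))).toAlgebra
  haveI : IsScalarTower R (R ⧸ I ^ (n + 1)) (AdicRing.trunc A I n) :=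
    IsScalarTower.of_algebraMap_eq fun r => rfl
  haveI : Algebra.FinitePresentation R (R ⧸ I ^ (n + 1)) :=
    Algebra.FinitePresentation.quotient (hI.pow)
  show Algebra.FinitePresentation (R ⧸ I ^ (n + 1)) (AdicRing.trunc A I n) ↔ _
  constructor
  · intro h
    exact Algebra.FinitePresentation.trans R (R ⧸ I ^ (n + 1)) _
  · intro h
    exact Algebra.FinitePresentation.of_restrict_scalars_finitePresentation (R := R) ..

variable {A : Type u} [CommRing A] [Algebra R A]

theorem finitePresentation_trunc (hI : I.FG) (hA : AdicRing.TopFinitePresentation R I A) (n : ℕ) :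
    Algebra.FinitePresentation R (AdicRing.trunc A I n) := by
  classical
  obtain ⟨k, φ, hφ, ⟨S, hS⟩⟩ := hA
  let u : MvPolynomial (Fin k) R →ₐ[R] AdicRing.trunc A I n :=
    ((Ideal.Quotient.mkₐ R _).comp φ).comp
      (IsScalarTower.toAlgHom R (MvPolynomial (Fin k) R) (AdicRing.RPow R I k))
  have hu : Function.Surjective u := fun y => by
    obtain ⟨a, rfl⟩ := Ideal.Quotient.mk_surjective y
    obtain ⟨x, rfl⟩ := hφ a
    obtain ⟨p, hp⟩ := exists_sub_mem_trunc hI k n x
    refine ⟨p, (Ideal.Quotient.eq.mpr ?_).symm⟩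
    show φ x - φ _ ∈ _
    have := Ideal.mem_map_of_mem φ.toRingHom hp
    rw [Ideal.map_map, AlgHom.toRingHom_eq_coe, φ.comp_algebraMap] at this
    simpa using this
  choose lft hlft using exists_sub_mem_trunc hI k n
  refine Algebra.FinitePresentation.of_surjective (f := u) hu ?_
  have hker : RingHom.ker u.toRingHom = Ideal.span (lft '' (S : Set (AdicRing.RPow R I k))) ⊔
      (I ^ (n + 1)).map (MvPolynomial.C : R →+* MvPolynomial (Fin k) R) := by
    have hmap : ((I ^ (n + 1)).map (algebraMap R (AdicRing.RPow R I k))).map φ.toRingHom =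
        (I ^ (n + 1)).map (algebraMap R A) := by
      rw [Ideal.map_map, AlgHom.toRingHom_eq_coe, φ.comp_algebraMap]
    refine le_antisymm (fun p hp => ?_) (sup_le (Ideal.span_le.mpr ?_) ?_)
    · have h1 : φ (algebraMap _ _ p) ∈ (I ^ (n + 1)).map (algebraMap R A) :=
        Ideal.Quotient.eq_zero_iff_mem.mp hp
      rw [← hmap] at h1
      obtain ⟨z, hz, hzφ⟩ := (Ideal.mem_map_iff_of_surjective _ hφ).mp h1
      have h2 : algebraMap _ (AdicRing.RPow R I k) p - z ∈ RingHom.ker φ.toRingHom := by
        rw [RingHom.mem_ker, map_sub, sub_eq_zero]; exact hzφ.symm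
      rw [← hS] at h2
      have h3 : algebraMap _ (AdicRing.RPow R I k) p ∈
          Ideal.span (S : Set (AdicRing.RPow R I k)) ⊔ (I ^ (n + 1)).map (algebraMap R (AdicRing.RPow R I k)) := by
        rw [← sub_add_cancel (algebraMap _ (AdicRing.RPow R I k) p) z]
        exact Submodule.add_mem_sup h2 hz
      have hspan : Ideal.span (S : Set (AdicRing.RPow R I k)) ≤
          (Ideal.span (lft '' (S : Set _))).map (algebraMap _ (AdicRing.RPow R I k)) ⊔
            (I ^ (n + 1)).map (algebraMap R (AdicRing.RPow R I k)) := by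
        refine Ideal.span_le.mpr fun s hs => ?_
        rw [← add_sub_cancel (algebraMap _ (AdicRing.RPow R I k) (lft s)) s]
        exact Submodule.add_mem_sup
          (Ideal.mem_map_of_mem _ (Ideal.subset_span ⟨s, hs, rfl⟩)) (hlft s)
      have h4 := (sup_le hspan le_sup_right) h3
      obtain ⟨a, ha, b, hb, hab⟩ := Submodule.mem_sup.mp h4
      -- move `a` back to polynomials modulo `I ^ (n+1)`
      suffices ∀ a ∈ (Ideal.span (lft '' (S : Set _))).map (algebraMap _ (AdicRing.RPow R I k)),
          ∃ q ∈ Ideal.span (lft '' (S : Set (AdicRing.RPow R I k))),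
            a - algebraMap _ _ q ∈ (I ^ (n + 1)).map (algebraMap R (AdicRing.RPow R I k)) by
        obtain ⟨q, hq, hq'⟩ := this a ha
        have h5 : algebraMap _ (AdicRing.RPow R I k) (p - q) ∈
            (I ^ (n + 1)).map (algebraMap R (AdicRing.RPow R I k)) := by
          rw [map_sub, ← hab, add_sub_right_comm]
          exact add_mem hq' hb
        rw [← add_sub_cancel q p]
        exact Submodule.add_mem_sup hq (mem_map_pow_of_algebraMap_mem k _ _ h5)
      intro a ha
      induction ha using Submodule.span_induction with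
      | mem x hx =>
        obtain ⟨q, hq, rfl⟩ := hx
        exact ⟨q, hq, by rw [sub_self]; exact zero_mem _⟩
      | zero => exact ⟨0, zero_mem _, by rw [map_zero, sub_zero]; exact zero_mem _⟩
      | add x y _ _ hx hy =>
        obtain ⟨q, hq, hqx⟩ := hx
        obtain ⟨r, hr, hry⟩ := hy
        exact ⟨q + r, add_mem hq hr, by rw [map_add, add_sub_add_comm]; exact add_mem hqx hry⟩
      | smul c x _ hx =>
        obtain ⟨q, hq, hqx⟩ := hx
        refine ⟨lft c * q, Ideal.mul_mem_left _ _ hq, ?_⟩
        rw [smul_eq_mul, map_mul,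
          show c * x - algebraMap _ _ (lft c) * algebraMap _ _ q =
            c * (x - algebraMap _ _ q) + (c - algebraMap _ _ (lft c)) * algebraMap _ _ q by ring]
        exact add_mem (Ideal.mul_mem_left _ _ hqx) (Ideal.mul_mem_right _ _ (hlft c))
    · rintro _ ⟨s, hs, rfl⟩
      refine Ideal.Quotient.eq_zero_iff_mem.mpr ?_
      have h0 : φ s = 0 := (hS ▸ Ideal.subset_span hs : s ∈ RingHom.ker φ.toRingHom)
      have := Ideal.mem_map_of_mem φ.toRingHom (hlft s)
      rw [hmap, map_sub, AlgHom.toRingHom_eq_coe, RingHom.coe_coe, h0, zero_sub] at this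
      exact (neg_mem_iff (H := (I ^ (n + 1)).map (algebraMap R A))).mp this
    · refine Ideal.map_le_iff_le_comap.mpr fun r hr => ?_
      show u (algebraMap R _ r) = 0
      rw [u.commutes]
      exact Ideal.Quotient.eq_zero_iff_mem.mpr (Ideal.mem_map_of_mem _ hr)
  rw [hker]
  exact Submodule.FG.sup ⟨S.image lft, by rw [Finset.coe_image]⟩ ((hI.pow).map _)

theorem topFiniteType_of_finiteType_trunc (hI : I.FG) [IsAdicComplete (I.map (algebraMap R A)) A]
    [Algebra.FiniteType R (AdicRing.trunc A I 0)] : AdicRing.TopFiniteType R I A := by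
  obtain ⟨k, f, hf⟩ := Algebra.FiniteType.iff_quotient_mvPolynomial''.mp
    ‹Algebra.FiniteType R (AdicRing.trunc A I 0)›
  choose lift hlift using Ideal.Quotient.mk_surjective (I := (I ^ (0 + 1)).map (algebraMap R A))
  obtain ⟨G, hG⟩ : ∃ G : AdicRing.RPow R I k →ₐ[R] A, ∀ c, G (algebraMap (MvPolynomial (Fin k) R) _ c) =
      MvPolynomial.aeval (fun i => lift (f (MvPolynomial.X i))) c := exists_lift _
  haveI := isAdicComplete_rPow (R := R) hI k
  have hmap : (I.map (algebraMap R (AdicRing.RPow R I k))).map G.toRingHom = I.map (algebraMap R A) := by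
    rw [Ideal.map_map, AlgHom.toRingHom_eq_coe, G.comp_algebraMap]
  have hcomp : (Ideal.Quotient.mkₐ R ((I ^ (0 + 1)).map (algebraMap R A))).comp
      (MvPolynomial.aeval fun i => lift (f (MvPolynomial.X i))) = f :=
    MvPolynomial.algHom_ext fun i => by
      rw [AlgHom.comp_apply, MvPolynomial.aeval_X]; exact hlift _
  haveI : IsHausdorff ((I.map (algebraMap R (AdicRing.RPow R I k))).map G.toRingHom) A := by
    rw [hmap]; infer_instance
  refine ⟨k, G, surjective_of_mk_map_comp_surjective
    (I := I.map (algebraMap R (AdicRing.RPow R I k))) G.toRingHom fun y => ?_⟩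
  obtain ⟨a, rfl⟩ := Ideal.Quotient.mk_surjective y
  obtain ⟨p, hp⟩ := hf (Ideal.Quotient.mk _ a)
  refine ⟨algebraMap _ _ p, Ideal.Quotient.eq.mpr ?_⟩
  rw [hmap, AlgHom.toRingHom_eq_coe, RingHom.coe_coe, hG]
  have h2 := Ideal.Quotient.eq.mp ((DFunLike.congr_fun hcomp p).trans hp)
  exact Ideal.map_mono (by rw [zero_add, pow_one]) h2

theorem finiteType_trunc_zero (hI : I.FG) (hA : AdicRing.TopFiniteType R I A) :
    Algebra.FiniteType R (AdicRing.trunc A I 0) := by
  obtain ⟨k, φ, hφ⟩ := hA
  refine Algebra.FiniteType.of_surjective (A := MvPolynomial (Fin k) R)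
    (((Ideal.Quotient.mkₐ R _).comp φ).comp
      (IsScalarTower.toAlgHom R (MvPolynomial (Fin k) R) (AdicRing.RPow R I k))) fun y => ?_
  obtain ⟨a, rfl⟩ := Ideal.Quotient.mk_surjective y
  obtain ⟨x, rfl⟩ := hφ a
  obtain ⟨p, hp⟩ := exists_sub_mem_trunc hI k 0 x
  refine ⟨p, (Ideal.Quotient.eq.mpr ?_).symm⟩
  show φ x - φ _ ∈ _
  have := Ideal.mem_map_of_mem φ.toRingHom hp
  rw [Ideal.map_map, AlgHom.toRingHom_eq_coe, φ.comp_algebraMap] at this
  simpa using this

theorem topFinitePresentation_of_trunc (hR : AdicRing.IsBase R I)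
    [IsAdicComplete (I.map (algebraMap R A)) A]
    (h : ∀ n, Algebra.FinitePresentation R (AdicRing.trunc A I n)) :
    AdicRing.TopFinitePresentation R I A := by
  classical
  have hI := fg_of_isBase hR
  haveI := h 0
  obtain ⟨k, φ, hφ⟩ := topFiniteType_of_finiteType_trunc (A := A) hI
  refine ⟨k, φ, hφ, ?_⟩
  set K := RingHom.ker φ.toRingHom with hKdef
  rcases (good_rPow hR k).1 with hN | ⟨t, rfl, hsat⟩
  · haveI := hN; exact IsNoetherian.noetherian _
  set τ := algebraMap R (AdicRing.RPow R (Ideal.span {t}) k) t with hτ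
  let K' : Ideal (AdicRing.RPow R (Ideal.span {t}) k) := satClosure τ K
  obtain ⟨c, hc⟩ := hsat.exists_pow_satClosure K
  have hK'fg : K'.FG := hsat.fg (isSat_satClosure τ K)
  haveI := h c
  let u : MvPolynomial (Fin k) R →ₐ[R] AdicRing.trunc A (Ideal.span {t}) c :=
    ((Ideal.Quotient.mkₐ R _).comp φ).comp
      (IsScalarTower.toAlgHom R (MvPolynomial (Fin k) R) (AdicRing.RPow R (Ideal.span {t}) k))
  have hmap : (((Ideal.span {t}) ^ (c + 1)).map (algebraMap R (AdicRing.RPow R (Ideal.span {t}) k))).map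
      φ.toRingHom = ((Ideal.span {t}) ^ (c + 1)).map (algebraMap R A) := by
    rw [Ideal.map_map, AlgHom.toRingHom_eq_coe, φ.comp_algebraMap]
  have hu : Function.Surjective u := fun y => by
    obtain ⟨a, rfl⟩ := Ideal.Quotient.mk_surjective y
    obtain ⟨x, rfl⟩ := hφ a
    obtain ⟨p, hp⟩ := exists_sub_mem_trunc hI k c x
    refine ⟨p, (Ideal.Quotient.eq.mpr ?_).symm⟩
    have := Ideal.mem_map_of_mem φ.toRingHom hp
    rw [hmap] at this
    simpa using this
  obtain ⟨T, hT⟩ := Algebra.FinitePresentation.ker_fG_of_surjective u hu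
  have hz : ∀ p ∈ T, ∃ z ∈ ((Ideal.span {t}) ^ (c + 1)).map
      (algebraMap R (AdicRing.RPow R (Ideal.span {t}) k)),
      algebraMap _ (AdicRing.RPow R (Ideal.span {t}) k) p - z ∈ K := by
    intro p hp
    have h1 : φ (algebraMap _ _ p) ∈ ((Ideal.span {t}) ^ (c + 1)).map (algebraMap R A) :=
      Ideal.Quotient.eq_zero_iff_mem.mp
        (hT ▸ Ideal.subset_span hp : p ∈ RingHom.ker u.toRingHom)
    rw [← hmap] at h1
    obtain ⟨z, hz, hzφ⟩ := (Ideal.mem_map_iff_of_surjective _ hφ).mp h1
    exact ⟨z, hz, by rw [hKdef, RingHom.mem_ker, map_sub, sub_eq_zero]; exact hzφ.symm⟩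
  choose z hzmem hzK using hz
  let S : Finset (AdicRing.RPow R (Ideal.span {t}) k) :=
    T.attach.image fun p => algebraMap _ _ p.1 - z p.1 p.2
  have hSK : Ideal.span (S : Set _) ≤ K := Ideal.span_le.mpr fun s hs => by
    rw [Finset.mem_coe, Finset.mem_image] at hs
    obtain ⟨p, -, rfl⟩ := hs
    exact hzK p.1 p.2
  suffices hKeq : K = Ideal.span (S : Set _) ⊔ Ideal.span {τ ^ c} * K' by
    rw [hKeq]
    exact Submodule.FG.sup ⟨S, rfl⟩ (Submodule.FG.mul ⟨{τ ^ c}, by simp⟩ hK'fg)
  refine le_antisymm (fun x hx => ?_) (sup_le hSK (Ideal.mul_le.mpr ?_))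
  · obtain ⟨p, hp⟩ := exists_sub_mem_trunc hI k c x
    have hpu : p ∈ RingHom.ker u.toRingHom := by
      refine Ideal.Quotient.eq_zero_iff_mem.mpr ?_
      have h0 : φ x = 0 := hx
      have := Ideal.mem_map_of_mem φ.toRingHom hp
      rw [hmap, map_sub, AlgHom.toRingHom_eq_coe, RingHom.coe_coe, h0, zero_sub] at this
      exact (neg_mem_iff (H := ((Ideal.span {t}) ^ (c + 1)).map (algebraMap R A))).mp this
    rw [← hT] at hpu
    have h2 : (Ideal.span (T : Set (MvPolynomial (Fin k) R))).map (algebraMap _ (AdicRing.RPow R (Ideal.span {t}) k)) ≤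
        Ideal.span (S : Set _) ⊔ ((Ideal.span {t}) ^ (c + 1)).map (algebraMap R _) := by
      refine Ideal.map_le_iff_le_comap.mpr (Ideal.span_le.mpr fun q hq => ?_)
      rw [SetLike.mem_coe, Ideal.mem_comap]
      rw [← sub_add_cancel (algebraMap _ (AdicRing.RPow R (Ideal.span {t}) k) q) (z q hq)]
      exact Submodule.add_mem_sup (Ideal.subset_span (Finset.mem_image.mpr
        ⟨⟨q, hq⟩, Finset.mem_attach _ _, rfl⟩)) (hzmem q hq)
    have h3 : x ∈ Ideal.span (S : Set _) ⊔ ((Ideal.span {t}) ^ (c + 1)).map (algebraMap R _) := by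
      rw [← sub_add_cancel x (algebraMap _ _ p)]
      exact add_mem (Ideal.mem_sup_right hp) (h2 (Ideal.mem_map_of_mem _ hpu))
    obtain ⟨a, ha, b, hb, rfl⟩ := Submodule.mem_sup.mp h3
    refine Submodule.add_mem_sup ha ?_
    have hbK : b ∈ K := (K.add_mem_iff_right (hSK ha)).mp hx
    rw [Ideal.span_singleton_pow] at hb
    have hb2 : b ∈ Ideal.span {algebraMap R (AdicRing.RPow R (Ideal.span {t}) k) (t ^ (c + 1))} :=
      (map_span_singleton' _ _).le hb
    rw [map_pow, ← hτ, Ideal.mem_span_singleton] at hb2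
    obtain ⟨y, rfl⟩ := hb2
    have hy : y ∈ K' := ⟨c + 1, by rw [smul_eq_mul]; exact hbK⟩
    rw [pow_succ, mul_assoc]
    exact Ideal.mul_mem_mul (Ideal.mem_span_singleton_self _) (Ideal.mul_mem_left _ _ hy)
  · intro a ha b hb
    obtain ⟨d, rfl⟩ := Ideal.mem_span_singleton'.mp ha
    rw [mul_assoc]
    exact K.mul_mem_left _ (by simpa [smul_eq_mul] using hc b hb)

/-- Truncations of a complete localisation. -/
theorem nonempty_trunc_cLoc_equiv (hI : I.FG) (f : A) (n : ℕ) :
    Nonempty ((AdicRing.trunc (AdicRing.CLoc I f) I n) ≃ₐ[R]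
      Localization.Away (Ideal.Quotient.mk ((I ^ (n + 1)).map (algebraMap R A)) f)) := by
  set An := AdicRing.trunc A I n with hAn
  set fb : An := Ideal.Quotient.mk ((I ^ (n + 1)).map (algebraMap R A)) f
  set D := Localization.Away fb
  set T := AdicRing.trunc (AdicRing.CLoc I f) I n
  haveI : IsAdicComplete (I.map (algebraMap R D)) D := isAdicComplete_trunc A D n fun a ha => by
    rw [IsScalarTower.algebraMap_apply A An D, Ideal.Quotient.algebraMap_eq,
      Ideal.Quotient.eq_zero_iff_mem.mpr ha, map_zero]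
  have hfD : IsUnit (algebraMap A D f) := by
    rw [IsScalarTower.algebraMap_apply A An D]
    exact IsLocalization.Away.algebraMap_isUnit fb
  let g : Localization.Away f →+* D := IsLocalization.Away.lift f hfD
  have hgA : ∀ a, g (algebraMap A _ a) = algebraMap A D a :=
    fun a => IsLocalization.Away.lift_eq f hfD a
  let g' : Localization.Away f →ₐ[R] D := AlgHom.mk g (by
    intro r
    change g (algebraMap R _ r) = _
    rw [IsScalarTower.algebraMap_apply R A (Localization.Away f), hgA,
      ← IsScalarTower.algebraMap_apply])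
  obtain ⟨G, hG⟩ : ∃ G : AdicRing.CLoc I f →ₐ[R] D,
      ∀ c, G (algebraMap (Localization.Away f) _ c) = g' c := exists_lift g'
  let Φ : T →ₐ[R] D := Ideal.Quotient.liftₐ _ G (by
    suffices (I ^ (n + 1)).map (algebraMap R (AdicRing.CLoc I f)) ≤ RingHom.ker G.toRingHom from
      fun x hx => this hx
    refine Ideal.map_le_iff_le_comap.mpr fun r hr => ?_
    show G (algebraMap R _ r) = 0
    rw [AlgHom.commutes, IsScalarTower.algebraMap_apply R An D,
      IsScalarTower.algebraMap_apply R A An, Ideal.Quotient.algebraMap_eq,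
      Ideal.Quotient.eq_zero_iff_mem.mpr (Ideal.mem_map_of_mem _ hr), map_zero])
  let ψ₀ : An →ₐ[R] T := Ideal.Quotient.liftₐ _ (IsScalarTower.toAlgHom R A T) (by
    suffices (I ^ (n + 1)).map (algebraMap R A) ≤ RingHom.ker (IsScalarTower.toAlgHom R A T).toRingHom from
      fun x hx => this hx
    refine Ideal.map_le_iff_le_comap.mpr fun r hr => ?_
    show (IsScalarTower.toAlgHom R A T) (algebraMap R A r) = 0
    rw [AlgHom.commutes, IsScalarTower.algebraMap_apply R (AdicRing.CLoc I f) T,
      Ideal.Quotient.algebraMap_eq, Ideal.Quotient.eq_zero_iff_mem.mpr (Ideal.mem_map_of_mem _ hr)])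
  have hψu : IsUnit (ψ₀ fb) := by
    show IsUnit (algebraMap A T f)
    rw [IsScalarTower.algebraMap_apply A (Localization.Away f) T]
    exact (IsLocalization.Away.algebraMap_isUnit f).map _
  let Ψ : D →+* T := IsLocalization.Away.lift fb (g := ψ₀.toRingHom) hψu
  have hΨ : ∀ a, Ψ (algebraMap An D a) = ψ₀ a := fun a => IsLocalization.Away.lift_eq fb hψu a
  have hΦA : ∀ a : A, Φ (algebraMap A T a) = algebraMap A D a := fun a => by
    show G (algebraMap A (AdicRing.CLoc I f) a) = _
    rw [IsScalarTower.algebraMap_apply A (Localization.Away f) (AdicRing.CLoc I f), hG]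
    exact hgA a
  have h1 : ∀ x, Φ (Ψ x) = x := by
    have : (Φ.toRingHom.comp Ψ) = RingHom.id D := by
      refine IsLocalization.ringHom_ext (Submonoid.powers fb) (RingHom.ext fun a => ?_)
      obtain ⟨a, rfl⟩ := Ideal.Quotient.mk_surjective a
      show Φ (Ψ (algebraMap An D _)) = algebraMap An D _
      rw [hΨ]
      exact (hΦA a).trans (IsScalarTower.algebraMap_apply A An D a)
    exact fun x => DFunLike.congr_fun this x
  have h2 : ∀ y, Ψ (Φ y) = y := by
    intro y
    obtain ⟨z, rfl⟩ := Ideal.Quotient.mk_surjective y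
    obtain ⟨l, hl⟩ := exists_sub_mem (R := R) (C := Localization.Away f) hI z (n + 1)
    have hz : Ideal.Quotient.mk ((I ^ (n + 1)).map (algebraMap R (AdicRing.CLoc I f))) z =
        algebraMap (Localization.Away f) T l :=
      Ideal.Quotient.eq.mpr ((Ideal.map_pow _ _ _).ge hl)
    rw [hz]
    have : (Ψ.comp Φ.toRingHom).comp (algebraMap (Localization.Away f) T) =
        algebraMap (Localization.Away f) T := by
      refine IsLocalization.ringHom_ext (Submonoid.powers f) (RingHom.ext fun a => ?_)
      show Ψ (Φ (algebraMap (Localization.Away f) T (algebraMap A _ a))) = algebraMap (Localization.Away f) T _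
      rw [← IsScalarTower.algebraMap_apply A (Localization.Away f) T, hΦA,
        IsScalarTower.algebraMap_apply A An D, hΨ]
      rfl
    exact DFunLike.congr_fun this l
  exact ⟨AlgEquiv.ofBijective Φ ⟨Function.LeftInverse.injective h2, Function.RightInverse.surjective h1⟩⟩

theorem span_range_mk_eq_top {r : ℕ} (f : Fin r → A) (hf : Ideal.span (Set.range f) = ⊤) (K : Ideal A) :
    Ideal.span (Set.range fun i => Ideal.Quotient.mk K (f i)) = ⊤ := by
  rw [show (Set.range fun i => Ideal.Quotient.mk K (f i)) = Ideal.Quotient.mk K '' Set.range f from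
    (Set.range_comp _ f), ← Ideal.map_span, hf, Ideal.map_top]

theorem topFiniteType_cLoc (hI : I.FG) (hA : AdicRing.TopFiniteType R I A) (f : A) :
    AdicRing.TopFiniteType R I (AdicRing.CLoc I f) := by
  haveI := isAdicComplete_completion (R := R) (C := Localization.Away f) hI
  haveI := finiteType_trunc_zero hI hA
  obtain ⟨e⟩ := nonempty_trunc_cLoc_equiv hI f 0
  haveI : Algebra.FiniteType R (AdicRing.trunc (AdicRing.CLoc I f) I 0) := by
    refine Algebra.FiniteType.equiv ?_ e.symm
    haveI := IsLocalization.Away.finitePresentation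
      (Ideal.Quotient.mk ((I ^ (0 + 1)).map (algebraMap R A)) f)
      (S := Localization.Away (Ideal.Quotient.mk ((I ^ (0 + 1)).map (algebraMap R A)) f))
    exact Algebra.FiniteType.trans (S := AdicRing.trunc A I 0) inferInstance inferInstance
  exact topFiniteType_of_finiteType_trunc hI

theorem topFiniteType_iff_cLoc (hI : I.FG) [IsAdicComplete (I.map (algebraMap R A)) A] {r : ℕ}
    (f : Fin r → A) (hf : Ideal.span (Set.range f) = ⊤) :
    AdicRing.TopFiniteType R I A ↔ ∀ i, AdicRing.TopFiniteType R I (AdicRing.CLoc I (f i)) := by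
  refine ⟨fun h i => topFiniteType_cLoc hI h _, fun h => ?_⟩
  haveI : Algebra.FiniteType R (AdicRing.trunc A I 0) := by
    refine Algebra.FiniteType.of_span_eq_top_target _ (span_range_mk_eq_top f hf _) ?_
    rintro _ ⟨i, rfl⟩
    obtain ⟨e⟩ := nonempty_trunc_cLoc_equiv hI (f i) 0
    exact Algebra.FiniteType.equiv (finiteType_trunc_zero hI (h i)) e
  exact topFiniteType_of_finiteType_trunc hI

theorem topFinitePresentation_cLoc (hR : AdicRing.IsBase R I)
    (hA : AdicRing.TopFinitePresentation R I A) (f : A) :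
    AdicRing.TopFinitePresentation R I (AdicRing.CLoc I f) := by
  have hI := fg_of_isBase hR
  haveI := isAdicComplete_completion (R := R) (C := Localization.Away f) hI
  refine topFinitePresentation_of_trunc hR fun n => ?_
  obtain ⟨e⟩ := nonempty_trunc_cLoc_equiv hI f n
  haveI := finitePresentation_trunc hI hA n
  haveI := IsLocalization.Away.finitePresentation
    (Ideal.Quotient.mk ((I ^ (n + 1)).map (algebraMap R A)) f)
    (S := Localization.Away (Ideal.Quotient.mk ((I ^ (n + 1)).map (algebraMap R A)) f))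
  haveI : Algebra.FinitePresentation R
      (Localization.Away (Ideal.Quotient.mk ((I ^ (n + 1)).map (algebraMap R A)) f)) :=
    Algebra.FinitePresentation.trans R (AdicRing.trunc A I n) _
  exact Algebra.FinitePresentation.equiv e.symm

theorem topFinitePresentation_iff_cLoc (hR : AdicRing.IsBase R I)
    [IsAdicComplete (I.map (algebraMap R A)) A] {r : ℕ} (f : Fin r → A)
    (hf : Ideal.span (Set.range f) = ⊤) :
    AdicRing.TopFinitePresentation R I A ↔
      ∀ i, AdicRing.TopFinitePresentation R I (AdicRing.CLoc I (f i)) := by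
  have hI := fg_of_isBase hR
  refine ⟨fun h i => topFinitePresentation_cLoc hR h _, fun h => topFinitePresentation_of_trunc hR fun n => ?_⟩
  refine Algebra.FinitePresentation.of_span_eq_top_target _ (span_range_mk_eq_top f hf _) ?_
  rintro _ ⟨i, rfl⟩
  obtain ⟨e⟩ := nonempty_trunc_cLoc_equiv hI (f i) n
  haveI := finitePresentation_trunc hI (h i) n
  exact Algebra.FinitePresentation.equiv e

theorem admissible_iff_cLoc (hR : AdicRing.IsBase R I)
    [IsAdicComplete (I.map (algebraMap R A)) A] {r : ℕ} (f : Fin r → A)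
    (hf : Ideal.span (Set.range f) = ⊤) :
    AdicRing.Admissible R I A ↔ ∀ i, AdicRing.Admissible R I (AdicRing.CLoc I (f i)) := by
  classical
  have hI := fg_of_isBase hR
  constructor
  · rintro ⟨hfp, htor⟩ i
    have hA : AdicRing.TopFiniteType R I A := by obtain ⟨k, φ, hφ, -⟩ := hfp; exact ⟨k, φ, hφ⟩
    haveI := flat_cLoc hR hA (f i)
    refine ⟨topFinitePresentation_cLoc hR hfp _, fun x m hx => ?_⟩
    obtain ⟨S, hS⟩ := (hI.pow (n := m))
    obtain ⟨k, a, y, rfl, hay⟩ := exists_of_forall_smul_eq_zero (C := A)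
      (S.image (algebraMap R A)) x (by
        intro b hb
        obtain ⟨s, hs, rfl⟩ := Finset.mem_image.mp hb
        rw [algebraMap_smul]
        exact hx s (hS ▸ Submodule.subset_span hs))
    refine Finset.sum_eq_zero fun j _ => ?_
    rw [htor (a j) m fun b hb => ?_, zero_smul]
    rw [← hS] at hb
    induction hb using Submodule.span_induction with
    | mem s hs =>
      rw [Algebra.smul_def]
      exact hay _ (Finset.mem_image_of_mem _ hs) j
    | zero => exact zero_smul _ _
    | add u v _ _ hu hv => rw [add_smul, hu, hv, add_zero]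
    | smul c u _ hu => rw [smul_assoc, hu, smul_zero]
  · intro h
    have hfp := (topFinitePresentation_iff_cLoc hR f hf).mpr fun i => (h i).1
    have hA : AdicRing.TopFiniteType R I A := by obtain ⟨k, φ, hφ, -⟩ := hfp; exact ⟨k, φ, hφ⟩
    haveI := faithfullyFlat_pi_cLoc hR hA f hf
    refine ⟨hfp, fun x m hx => FaithfulSMul.algebraMap_injective A (∀ i, AdicRing.CLoc I (f i)) ?_⟩
    rw [map_zero]
    funext i
    refine (h i).2 _ m fun a ha => ?_
    rw [Pi.algebraMap_apply, Algebra.smul_def, IsScalarTower.algebraMap_apply R A (AdicRing.CLoc I (f i)),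
      ← map_mul, ← Algebra.smul_def, hx a ha, map_zero]

end Groth.Agent.Lib.RigH7
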