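import Groth.Agent.Lib.RigH7.Flat
import Mathlib.RingTheory.Flat.TorsionFree

/-! Consequences of `Good`: finite generation of saturated submodules, Artin–Rees, flatness and
exactness of completion, completeness of finite modules. -/

universe u v
open TensorProduct

namespace Groth.Agent.Lib.RigH7

variable {R : Type u} [CommRing R] {I : Ideal R} {C : Type u} [CommRing C] [Algebra R C]

theorem map_span_singleton' {D : Type v} [CommRing D] (f : R →+* D) (t : R) :
    (Ideal.span {t}).map f = Ideal.span {f t} := by
  rw [Ideal.map_span, Set.image_singleton]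

theorem Good.fg_of_saturated (h : Good I C) {M : Type u} [AddCommGroup M] [Module C M] [Module R M]
    [IsScalarTower R C M] [Module.Finite C M] (N : Submodule C M)
    (hsat : ∀ (x : M) (n : ℕ), (∀ a ∈ I ^ n, a • x ∈ N) → x ∈ N) : N.FG := by
  rcases h with h | ⟨t, rfl, h⟩
  · haveI := h
    exact IsNoetherian.noetherian N
  · refine h.fg fun x hx => hsat x 1 fun a ha => ?_
    rw [pow_one, Ideal.mem_span_singleton'] at ha
    obtain ⟨b, rfl⟩ := ha
    rw [mul_smul]
    refine N.smul_of_tower_mem b ?_
    rwa [algebraMap_smul] at hx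

theorem Good.artinRees (h : Good I C) {M : Type u} [AddCommGroup M] [Module C M] [Module R M]
    [IsScalarTower R C M] [Module.Finite C M] (N : Submodule C M) :
    ∃ n₀ : ℕ, ∀ m : ℕ,
      (I ^ (m + n₀) • (⊤ : Submodule R M)) ⊓ N.restrictScalars R ≤ I ^ m • N.restrictScalars R := by
  rcases h with h | ⟨t, rfl, h⟩
  · haveI := h
    obtain ⟨k, hk⟩ := Ideal.exists_pow_inf_eq_pow_smul (I.map (algebraMap R C)) N
    refine ⟨k, fun m x hx => ?_⟩
    have e : ∀ (j : ℕ) (P : Submodule C M), ((I.map (algebraMap R C)) ^ j • P).restrictScalars R =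
        I ^ j • P.restrictScalars R := fun j P => by
      rw [← Ideal.map_pow, Ideal.smul_restrictScalars]
    have h1 : x ∈ (I.map (algebraMap R C)) ^ (m + k) • (⊤ : Submodule C M) ⊓ N := by
      refine ⟨?_, hx.2⟩
      have := hx.1
      rw [← Submodule.restrictScalars_top R C M, ← e] at this
      exact this
    rw [hk (m + k) (by omega), Nat.add_sub_cancel] at h1
    rw [← e, Submodule.restrictScalars_mem]
    exact (Submodule.smul_mono le_rfl inf_le_right) h1
  · obtain ⟨c, hc⟩ := h.artinRees N
    refine ⟨c, fun m x hx => ?_⟩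
    obtain ⟨hx1, hx2⟩ := hx
    rw [SetLike.mem_coe] at hx1
    obtain ⟨z, rfl⟩ := mem_pow_smul_top.mp hx1
    have h2 : (algebraMap R C t) ^ (m + c) • z ∈ N := by
      rw [← map_pow, algebraMap_smul]; exact hx2
    obtain ⟨n, hn, he⟩ := hc m z h2
    rw [← map_pow, algebraMap_smul, ← map_pow, algebraMap_smul] at he
    rw [he]
    exact Submodule.smul_mem_smul (Ideal.pow_mem_pow (Ideal.mem_span_singleton_self t) m) hn

theorem Good.ofTensorProduct_bijective (h : Good I C) (M : Type u) [AddCommGroup M] [Module C M]
    [Module.Finite C M] :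
    Function.Bijective (AdicCompletion.ofTensorProduct (I.map (algebraMap R C)) M) := by
  rcases h with h | ⟨t, rfl, h⟩
  · haveI := h
    exact AdicCompletion.ofTensorProduct_bijective_of_finite_of_isNoetherian _ M
  · have key : ∀ J : Ideal C, J = Ideal.span {algebraMap R C t} →
        Function.Bijective (AdicCompletion.ofTensorProduct J M) := by
      rintro _ rfl
      exact h.ofTensorProduct_bijective M
    exact key _ (map_span_singleton' _ t)

theorem Good.flat_completion (h : Good I C) :
    Module.Flat C (AdicCompletion (I.map (algebraMap R C)) C) := by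
  rcases h with h | ⟨t, rfl, h⟩
  · haveI := h
    infer_instance
  · have key : ∀ J : Ideal C, J = Ideal.span {algebraMap R C t} →
        Module.Flat C (AdicCompletion J C) := by
      rintro _ rfl
      exact h.flat_completion
    exact key _ (map_span_singleton' _ t)

theorem isAdicComplete_of_topFiniteType (hR : AdicRing.IsBase R I) {A : Type u} [CommRing A]
    [Algebra R A] (hA : AdicRing.TopFiniteType R I A) (M : Type u) [AddCommGroup M] [Module A M]
    [Module R M] [IsScalarTower R A M] [Module.Finite A M] : IsAdicComplete I M := by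
  obtain ⟨n, φ, hφ⟩ := hA
  set P := AdicRing.RPow R I n
  letI : Algebra P A := φ.toRingHom.toAlgebra
  letI : Module P M := Module.compHom M φ.toRingHom
  haveI : IsScalarTower P A M := ⟨fun p a m => by
    show (φ p * a) • m = φ p • (a • m)
    rw [mul_smul]⟩
  haveI : IsScalarTower R P M := ⟨fun r p m => by
    show φ (r • p) • m = r • (φ p • m)
    rw [map_smul, smul_assoc]⟩
  haveI : Module.Finite P A := Module.Finite.of_surjective (Algebra.linearMap P A) hφ
  haveI : Module.Finite P M := Module.Finite.trans A M
  haveI := isAdicComplete_rPow (fg_of_isBase hR) n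
  suffices h : IsAdicComplete (I.map (algebraMap R P)) M by
    exact (isAdicComplete_iff I M).mpr ⟨(IsHausdorff.map_algebraMap_iff (S := P)).mp h.1,
      (IsPrecomplete.map_algebraMap_iff (S := P)).mp h.2⟩
  rw [← AdicCompletion.of_bijective_iff]
  have hb := (good_rPow hR n).1.ofTensorProduct_bijective M
  set J := I.map (algebraMap R P)
  let i := AdicCompletion.ofAlgEquiv (S := P) J
  let e := (TensorProduct.lid P M).symm.trans (TensorProduct.congr i.toLinearEquiv (LinearEquiv.refl P M))
  convert hb.comp e.bijective using 1
  funext x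
  simp [e]
  rw [AdicCompletion.ofTensorProduct_tmul, one_smul]

/-- If every element of a generating set of an ideal kills `x` in a flat extension, `x` is a
combination of elements killed by all of them. -/
theorem exists_of_forall_smul_eq_zero {D : Type v} [AddCommGroup D] [Module C D] [Module.Flat C D]
    (S : Finset C) (x : D) (hx : ∀ b ∈ S, b • x = 0) :
    ∃ (k : ℕ) (a : Fin k → C) (y : Fin k → D),
      x = ∑ j, a j • y j ∧ ∀ b ∈ S, ∀ j, b * a j = 0 := by
  classical
  induction S using Finset.induction with
  | empty => exact ⟨1, 1, fun _ => x, by simp, by simp⟩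
  | @insert b₀ S hb ih =>
    obtain ⟨k, a, y, hxy, ha⟩ := ih fun b hb' => hx b (Finset.mem_insert_of_mem hb')
    have h0 : ∑ j, (b₀ * a j) • y j = 0 := by
      have := hx b₀ (Finset.mem_insert_self _ _)
      rw [hxy, Finset.smul_sum] at this
      simpa [mul_smul] using this
    obtain ⟨l, e, z, hyz, hz⟩ := Module.Flat.isTrivialRelation_of_sum_smul_eq_zero h0
    refine ⟨l, fun i => ∑ j, a j * e j i, z, ?_, ?_⟩
    · rw [hxy]
      simp only [hyz, Finset.smul_sum, smul_smul, Finset.sum_smul]
      exact Finset.sum_comm
    · intro b hb' i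
      rw [Finset.mul_sum]
      rcases Finset.mem_insert.mp hb' with rfl | hb'
      · rw [← hz i]
        exact Finset.sum_congr rfl fun j _ => by ring
      · exact Finset.sum_eq_zero fun j _ => by rw [← mul_assoc, ha b hb' j, zero_mul]

end Groth.Agent.Lib.RigH7
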