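import Groth.Agent.Lib.RigH7.Sat

/-! `FiniteSat` passes to polynomial rings, by homogenization and graded Nakayama. -/

universe u v w
open MvPolynomial

namespace Groth.Agent.Lib.RigH7

/-- Reductions extend to polynomial rings. -/
noncomputable def Reduction.poly {A : Type u} [CommRing A] {t : A} {R₀ : Type w} [CommRing R₀] {n : ℕ}
    (red : Reduction t R₀ n) {σ : Type} [Fintype σ] :
    Reduction (MvPolynomial.C t : MvPolynomial σ A) R₀ (Fintype.card (σ ⊕ Fin n)) :=
  let e : MvPolynomial σ (MvPolynomial (Fin n) R₀) ≃ₐ[R₀] MvPolynomial (Fin (Fintype.card (σ ⊕ Fin n))) R₀ :=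
    (MvPolynomial.sumAlgEquiv R₀ σ (Fin n)).symm.trans (MvPolynomial.renameEquiv R₀ (Fintype.equivFin _))
  { π := e.toRingHom.comp (MvPolynomial.map red.π)
    surj := e.surjective.comp (MvPolynomial.map_surjective red.π red.surj)
    ker_eq := by
      rw [RingHom.ker_comp_of_injective _ e.injective, MvPolynomial.ker_map, red.ker_eq, Ideal.map_span,
        Set.image_singleton]
    valLike := red.valLike
    lift := fun d hd => by
      obtain ⟨r, r', hr, hrr⟩ := red.lift d hd
      refine ⟨C r, C r', ?_, by rw [← map_mul, hrr]⟩
      change e (MvPolynomial.map red.π (C r)) = _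
      rw [map_C, hr]
      exact e.commutes d }

variable {A : Type u} [CommRing A] {σ : Type} {s : ℕ}

/-- Componentwise homogeneous component. -/
noncomputable def hcVec (D : ℕ) : (Fin s → MvPolynomial σ A) →ₗ[A] (Fin s → MvPolynomial σ A) :=
  LinearMap.pi fun i => homogeneousComponent D ∘ₗ LinearMap.proj i

theorem hcVec_apply (D : ℕ) (F : Fin s → MvPolynomial σ A) (i : Fin s) :
    hcVec D F i = homogeneousComponent D (F i) := rfl

theorem hcVec_hcVec (D k : ℕ) (F : Fin s → MvPolynomial σ A) :
    hcVec D (hcVec k F) = if D = k then hcVec k F else 0 := by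
  funext i
  rw [hcVec_apply, hcVec_apply, homogeneousComponent_of_mem (homogeneousComponent_mem k (F i))]
  split_ifs <;> rfl

theorem hcVec_eq_zero (F : Fin s → MvPolynomial σ A) :
    ∃ K, ∀ k ≥ K, hcVec k F = 0 :=
  ⟨(Finset.univ.sup fun i => (F i).totalDegree) + 1, fun k hk => funext fun i =>
    homogeneousComponent_eq_zero k (F i) (lt_of_lt_of_le (Nat.lt_succ_of_le
      (Finset.le_sup (f := fun i => (F i).totalDegree) (Finset.mem_univ i))) hk)⟩

theorem homogeneousComponent_X_mul (D : ℕ) (j : σ) (p : MvPolynomial σ A) :
    homogeneousComponent D (X j * p) =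
      if 1 ≤ D then X j * homogeneousComponent (D - 1) p else 0 := by
  classical
  conv_lhs => rw [← sum_homogeneousComponent p, Finset.mul_sum, map_sum]
  have h : ∀ k, homogeneousComponent D (X j * homogeneousComponent k p) =
      if D = 1 + k then X j * homogeneousComponent k p else 0 := fun k =>
    homogeneousComponent_of_mem ((isHomogeneous_X A j).mul (homogeneousComponent_isHomogeneous k p))
  simp only [h]
  split_ifs with hD
  · rw [Finset.sum_eq_single (D - 1)]
    · rw [if_pos (by omega)]
    · intro b _ hb
      rw [if_neg (by omega)]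
    · intro hmem
      rw [homogeneousComponent_eq_zero _ p (by simp only [Finset.mem_range] at hmem; omega), mul_zero]
      simp
  · exact Finset.sum_eq_zero fun b _ => if_neg (by omega)

/-- Vectors all of whose homogeneous components lie in a submodule. -/
noncomputable def homCore (P : Submodule (MvPolynomial σ A) (Fin s → MvPolynomial σ A)) :
    Submodule (MvPolynomial σ A) (Fin s → MvPolynomial σ A) where
  carrier := {F | ∀ D, hcVec D F ∈ P}
  add_mem' := fun {a b} ha hb D => by rw [map_add]; exact P.add_mem (ha D) (hb D)
  zero_mem' := fun D => by rw [map_zero]; exact P.zero_mem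
  smul_mem' := by
    intro c F hF
    induction c using MvPolynomial.induction_on generalizing F with
    | C a =>
      intro D
      rw [← algebraMap_eq, algebraMap_smul, map_smul]
      exact P.smul_of_tower_mem a (hF D)
    | add p q hp hq =>
      intro D
      rw [add_smul, map_add]
      exact P.add_mem (hp hF D) (hq hF D)
    | mul_X p j hp =>
      intro D
      rw [mul_smul]
      refine hp (F := (X j : MvPolynomial σ A) • F) (fun D => ?_) D
      by_cases hD : 1 ≤ D
      · have : hcVec D ((X j : MvPolynomial σ A) • F) = (X j : MvPolynomial σ A) • hcVec (D - 1) F :=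
          funext fun i => (homogeneousComponent_X_mul D j (F i)).trans (if_pos hD)
        rw [this]
        exact P.smul_mem _ (hF _)
      · have : hcVec D ((X j : MvPolynomial σ A) • F) = 0 :=
          funext fun i => (homogeneousComponent_X_mul D j (F i)).trans (if_neg hD)
        rw [this]
        exact P.zero_mem

theorem mem_homCore {P : Submodule (MvPolynomial σ A) (Fin s → MvPolynomial σ A)}
    {F : Fin s → MvPolynomial σ A} : F ∈ homCore P ↔ ∀ D, hcVec D F ∈ P := Iff.rfl

/-- Homogenization of degree `D`. -/
noncomputable def homogenize (m D : ℕ) (p : MvPolynomial (Fin m) A) :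
    MvPolynomial (Option (Fin m)) A :=
  ∑ k ∈ Finset.range (D + 1), X none ^ (D - k) * rename some (homogeneousComponent k p)

theorem homogenize_isHomogeneous (m D : ℕ) (p : MvPolynomial (Fin m) A) :
    (homogenize m D p).IsHomogeneous D := by
  refine IsHomogeneous.sum _ _ _ fun k hk => ?_
  have h := ((isHomogeneous_X A (none : Option (Fin m))).pow (D - k)).mul
    ((homogeneousComponent_isHomogeneous k p).rename_isHomogeneous (f := some))
  have : 1 * (D - k) + k = D := by simp only [Finset.mem_range] at hk; omega
  rwa [this] at h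

/-- Setting the homogenizing variable to `1`. -/
noncomputable def dehom (m : ℕ) : MvPolynomial (Option (Fin m)) A →ₐ[A] MvPolynomial (Fin m) A :=
  aeval fun o => o.elim 1 X

theorem dehom_homogenize (m D : ℕ) (p : MvPolynomial (Fin m) A) (hD : p.totalDegree ≤ D) :
    dehom m (homogenize m D p) = p := by
  have h1 : dehom (A := A) m (X none) = 1 := aeval_X _ _
  have h2 : ∀ q : MvPolynomial (Fin m) A, dehom m (rename some q) = q := fun q => by
    rw [dehom, aeval_rename]
    exact aeval_X_left_apply q
  simp only [homogenize, map_sum, map_mul, map_pow, h1, h2, one_pow, one_mul]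
  conv_rhs => rw [← sum_homogeneousComponent p]
  symm
  refine Finset.sum_subset (fun x hx => ?_) fun x _ hx => ?_
  · simp only [Finset.mem_range] at hx ⊢; omega
  · exact homogeneousComponent_eq_zero x p (by simp only [Finset.mem_range] at hx; omega)

attribute [local irreducible] homogenize dehom

theorem FiniteSat.mvPolynomial {t : A} (hA : FiniteSat t) {R₀ : Type w} [CommRing R₀] {n : ℕ}
    (red : Reduction t R₀ n) (hjac : t ∈ (⊥ : Ideal A).jacobson) (m : ℕ) :
    FiniteSat (C t : MvPolynomial (Fin m) A) := by
  classical
  intro s N hN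
  let C' := MvPolynomial (Option (Fin m)) A
  let δ : (Fin s → C') → (Fin s → MvPolynomial (Fin m) A) := fun F i => dehom m (F i)
  have hδadd : ∀ F G, δ (F + G) = δ F + δ G := fun F G => funext fun i => map_add _ _ _
  have hδsmul : ∀ (c : C') F, δ (c • F) = dehom m c • δ F := fun c F => funext fun i => map_mul _ _ _
  let P : Submodule C' (Fin s → C') :=
    { carrier := {F | δ F ∈ N}
      add_mem' := fun {a b} ha hb => by
        show δ (a + b) ∈ N
        rw [hδadd]; exact N.add_mem ha hb
      zero_mem' := by
        show δ 0 ∈ N
        rw [show δ 0 = 0 from funext fun i => map_zero _]; exact N.zero_mem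
      smul_mem' := fun c F hF => by
        show δ (c • F) ∈ N
        rw [hδsmul]; exact N.smul_mem _ hF }
  have hCt : ∀ F : Fin s → C', (C t : C') • F = t • F := fun F => funext fun i =>
    (MvPolynomial.smul_eq_C_mul _ _).symm
  have hsat : IsSat (C t : C') (homCore P) := fun F hF D => by
    refine hN _ ?_
    have h : δ ((C t : C') • hcVec D F) ∈ N := by
      rw [hCt, ← map_smul, ← hCt]
      exact hF D
    rw [hδsmul] at h
    rwa [show dehom m (C t : C') = C t from (dehom m).commutes t] at h
  obtain ⟨N₁, hN₁fg, hN₁le, hstep⟩ := (red.poly (σ := Option (Fin m))).exists_fg_mod hsat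
  obtain ⟨S, hS⟩ := hN₁fg
  choose K hK using fun F : Fin s → C' => hcVec_eq_zero F
  let H : Finset (Fin s → C') := S.biUnion fun F => (Finset.range (K F)).image fun k => hcVec k F
  let NH := Submodule.span C' (H : Set (Fin s → C'))
  have hHP : NH ≤ P := Submodule.span_le.mpr fun F hF => by
    simp only [H, Finset.coe_biUnion, Finset.coe_image, Set.mem_iUnion, Set.mem_image] at hF
    obtain ⟨G, hG, k, -, rfl⟩ := hF
    exact hN₁le (hS ▸ Submodule.subset_span hG) k
  have hSH : N₁ ≤ homCore NH := by
    rw [← hS, Submodule.span_le]
    intro F hF D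
    by_cases hD : D < K F
    · exact Submodule.subset_span (by
        simp only [H, Finset.coe_biUnion, Finset.coe_image, Set.mem_iUnion, Set.mem_image]
        exact ⟨F, hF, D, by simpa using hD, rfl⟩)
    · rw [hK F D (not_lt.mp hD)]; exact NH.zero_mem
  have hkey : ∀ (D : ℕ) (F : Fin s → C'), F ∈ homCore P → hcVec D F = F → F ∈ NH := by
    intro D
    let V : Submodule A (Fin s → C') := LinearMap.range (hcVec D)
    let Q : Submodule A (Fin s → C') := V ⊓ (homCore P).restrictScalars A
    haveI : Module.Finite A V := by
      rw [Module.Finite.iff_fg]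
      have hV : V ≤ (Submodule.pi Set.univ fun _ => restrictTotalDegree (Option (Fin m)) A D).map
          (hcVec D) := by
        rintro _ ⟨F, rfl⟩
        refine ⟨hcVec D F, fun i _ => ?_, by rw [hcVec_hcVec, if_pos rfl]⟩
        show hcVec D F i ∈ restrictTotalDegree (Option (Fin m)) A D
        rw [mem_restrictTotalDegree]
        exact (homogeneousComponent_isHomogeneous D (F i)).totalDegree_le
      rw [le_antisymm hV (Submodule.map_le_iff_le_comap.mpr fun F _ => ⟨F, rfl⟩)]
      refine Submodule.FG.map _ (Submodule.fg_pi fun _ => ?_)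
      rw [← Module.Finite.iff_fg]
      infer_instance
    have hQfg : Q.FG := by
      have h1 : IsSat t (Q.comap V.subtype) := fun x hx => by
        refine ⟨x.2, hsat _ ?_⟩
        rw [hCt]
        exact hx.2
      have h2 : (Q.comap V.subtype).map V.subtype = Q := by
        rw [Submodule.map_comap_eq, Submodule.range_subtype]
        exact inf_eq_right.mpr inf_le_left
      rw [← h2]
      exact (hA.fg h1).map _
    have hle : Q ≤ NH.restrictScalars A := by
      refine Submodule.le_of_le_smul_of_le_jacobson_bot (I := Ideal.span {t}) hQfg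
        ((Ideal.span_singleton_le_iff_mem _).mpr hjac) fun F hF => ?_
      obtain ⟨⟨G, rfl⟩, hFP⟩ := hF
      obtain ⟨y, hy, hxy⟩ := hstep _ hFP
      have h3 : hcVec D (hcVec D G - (C t : C') • y) ∈ NH := hSH hxy D
      rw [map_sub, hcVec_hcVec, if_pos rfl, hCt, map_smul] at h3
      have h4 : hcVec D G = (hcVec D G - t • hcVec D y) + t • hcVec D y := by abel
      rw [h4]
      refine Submodule.add_mem_sup h3 (Submodule.smul_mem_smul (Ideal.mem_span_singleton_self t) ?_)
      exact ⟨⟨y, rfl⟩, fun k => by
        rw [hcVec_hcVec]
        split_ifs with h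
        · exact hy D
        · exact P.zero_mem⟩
    intro F hF hFD
    exact hle ⟨⟨F, hFD⟩, hF⟩
  have hδspan : ∀ G ∈ NH, δ G ∈ Submodule.span (MvPolynomial (Fin m) A) (δ '' (H : Set (Fin s → C'))) := by
    intro G hG
    induction hG using Submodule.span_induction with
    | mem G hG => exact Submodule.subset_span ⟨G, hG, rfl⟩
    | zero => rw [show δ 0 = 0 from funext fun i => map_zero _]; exact zero_mem _
    | add a b _ _ ha hb => rw [hδadd]; exact add_mem ha hb
    | smul c a _ ha => rw [hδsmul]; exact Submodule.smul_mem _ _ ha
  refine ⟨H.image δ, le_antisymm ?_ fun x hx => ?_⟩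
  · rw [Submodule.span_le, Finset.coe_image]
    rintro _ ⟨F, hF, rfl⟩
    exact hHP (Submodule.subset_span hF)
  · let D := Finset.univ.sup fun i => (x i).totalDegree
    let F : Fin s → C' := fun i => homogenize m D (x i)
    have hFD : hcVec D F = F := funext fun i => homogeneousComponent_eq_self (homogenize_isHomogeneous m D (x i))
    have hle : ∀ i, (x i).totalDegree ≤ D := fun i =>
      Finset.le_sup (f := fun i => (x i).totalDegree) (Finset.mem_univ i)
    have hδF : δ F = x := funext fun i => by
      show dehom m (homogenize m D (x i)) = x i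
      exact dehom_homogenize m D (x i) (hle i)
    have hFP : F ∈ homCore P := fun k => by
      by_cases hk : k = D
      · subst hk
        rw [hFD]
        show δ F ∈ N
        rwa [hδF]
      · rw [← hFD, hcVec_hcVec, if_neg hk]
        exact P.zero_mem
    rw [Finset.coe_image, ← hδF]
    exact hδspan F (hkey D F hFP hFD)

end Groth.Agent.Lib.RigH7
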