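import Groth.Agent.Lib.RigH7.Std

/-! Saturated submodules of free modules over polynomial rings over a `ValLike` ring are finitely
generated. -/

universe u

namespace Groth.Agent.Lib.RigH7

variable {R : Type u} [CommRing R] (n s : ℕ)

/-- The monomial basis of `P ^ s`. -/
noncomputable def monBasis :
    Module.Basis (Σ _ : Fin s, (Fin n →₀ ℕ)) R (Fin s → MvPolynomial (Fin n) R) :=
  Pi.basis fun _ => MvPolynomial.basisMonomials (Fin n) R

theorem monBasis_repr (x : Fin s → MvPolynomial (Fin n) R) (i : Σ _ : Fin s, (Fin n →₀ ℕ)) :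
    (monBasis n s).repr x i = MvPolynomial.coeff i.2 (x i.1) := by
  rw [monBasis, Pi.basis_repr]
  rfl

/-- The well ordering of monomials with positions. -/
def monKey (i : Σ _ : Fin s, (Fin n →₀ ℕ)) : Lex (Lex (Fin n →₀ ℕ) × Fin s) :=
  toLex (toLex i.2, i.1)

theorem monKey_injective : Function.Injective (monKey n s) := by
  rintro ⟨p, d⟩ ⟨q, e⟩ h
  have h' := congr_arg ofLex h
  simp only [monKey, ofLex_toLex, Prod.mk.injEq] at h'
  obtain ⟨h1, h2⟩ := h'
  cases toLex.injective h1; cases h2; rfl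

theorem fg_submodule_mvPolynomial (hR : ValLike R)
    (N : Submodule (MvPolynomial (Fin n) R) (Fin s → MvPolynomial (Fin n) R))
    (hsat : ∀ (d : R) (y : Fin s → MvPolynomial (Fin n) R),
      ¬ IsUnit d → d • y ∈ N → ∃ z ∈ N, d • y = d • z) : N.FG := by
  classical
  haveI := hR.nontrivial
  haveI : WellFoundedLT (Lex (Fin n →₀ ℕ)) := Finsupp.Lex.wellFoundedLT_of_finite
  let b := monBasis (R := R) n s
  let key := monKey n s
  let S : Fin s → Set (Fin n →₀ ℕ) := fun p => {d | ∃ x ∈ N, IsTop b key x ⟨p, d⟩}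
  have hfin : ∀ p, {d | Minimal (· ∈ S p) d}.Finite := fun p =>
    (setOf_minimal_antichain _).finite_of_partiallyWellOrderedOn (Set.isPWO_of_wellQuasiOrderedLE _)
  let T : Finset (Σ _ : Fin s, (Fin n →₀ ℕ)) := Finset.univ.sigma fun p => (hfin p).toFinset
  have hT : ∀ i ∈ T, ∃ g ∈ N, b.repr g i = 1 ∧ ∀ j, key i < key j → ¬ IsUnit (b.repr g j) := by
    rintro ⟨p, d⟩ hi
    simp only [T, Finset.mem_sigma, Set.Finite.mem_toFinset] at hi
    obtain ⟨x, hx, hu, htop⟩ := hi.2.prop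
    refine ⟨(↑hu.unit⁻¹ : R) • x, N.smul_of_tower_mem _ hx, ?_, fun j hj h => ?_⟩
    · rw [map_smul, Finsupp.smul_apply, smul_eq_mul, IsUnit.val_inv_mul]
    · rw [map_smul, Finsupp.smul_apply, smul_eq_mul] at h
      exact htop j hj (isUnit_of_mul_isUnit_right h)
  choose g hgN hg1 hgtop using hT
  let U : Finset R := T.attach.biUnion fun i =>
    ((b.repr (g i.1 i.2)).support.filter fun j => key i.1 < key j).image (b.repr (g i.1 i.2))
  obtain ⟨c, hc, hcU⟩ : ∃ c : R, ¬ IsUnit c ∧ ∀ a ∈ U, c ∣ a := by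
    by_cases hU : U.Nonempty
    · obtain ⟨c, hc, hdvd⟩ := hR.exists_dvd U id hU
      refine ⟨c, ?_, fun a ha => hdvd a ha⟩
      simp only [U, Finset.mem_biUnion, Finset.mem_image, Finset.mem_filter] at hc
      obtain ⟨i, -, j, ⟨-, hj⟩, rfl⟩ := hc
      exact hgtop i.1 i.2 j hj
    · exact ⟨0, not_isUnit_zero, fun a ha => absurd ⟨a, ha⟩ hU⟩
  let G : Finset (Fin s → MvPolynomial (Fin n) R) := T.attach.image fun i => g i.1 i.2
  let N' := Submodule.span (MvPolynomial (Fin n) R) (G : Set (Fin s → MvPolynomial (Fin n) R))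
  have hN' : N' ≤ N := Submodule.span_le.mpr fun x hx => by
    simp only [G, Finset.coe_image, Set.mem_image] at hx
    obtain ⟨i, -, rfl⟩ := hx
    exact hgN i.1 i.2
  refine ⟨G, le_antisymm hN' ?_⟩
  intro x hx
  refine (le_of_leads b key (monKey_injective n s) hR (N.restrictScalars R) (N'.restrictScalars R)
    hN' c hc hsat ?_) hx
  rintro y hy ⟨p, d⟩ htop
  obtain ⟨d₀, hd₀, hmin⟩ := (Set.isPWO_of_wellQuasiOrderedLE (S p)).exists_le_minimal ⟨y, hy, htop⟩
  have hiT : (⟨p, d₀⟩ : Σ _ : Fin s, (Fin n →₀ ℕ)) ∈ T := by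
    simp only [T, Finset.mem_sigma, Finset.mem_univ, true_and, Set.Finite.mem_toFinset]
    exact hmin
  set g₀ := g _ hiT
  have hg₀ : g₀ ∈ N' := Submodule.subset_span (by
    simp only [G, Finset.coe_image, Set.mem_image]
    exact ⟨⟨_, hiT⟩, by simp, rfl⟩)
  refine ⟨MvPolynomial.monomial (d - d₀) (1 : R) • g₀, N'.smul_mem _ hg₀, ?_, ?_⟩
  · rw [monBasis_repr, Pi.smul_apply, smul_eq_mul, MvPolynomial.coeff_monomial_mul',
      if_pos tsub_le_self, one_mul, tsub_tsub_cancel_of_le hd₀, ← monBasis_repr n s g₀ ⟨p, d₀⟩]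
    exact hg1 _ hiT
  · rintro ⟨q, e⟩ hj
    rw [monBasis_repr, Pi.smul_apply, smul_eq_mul, MvPolynomial.coeff_monomial_mul']
    split_ifs with he
    · rw [one_mul, ← monBasis_repr n s g₀ ⟨q, e - (d - d₀)⟩]
      by_cases h0 : b.repr g₀ ⟨q, e - (d - d₀)⟩ = 0
      · rw [h0]; exact dvd_zero _
      refine hcU _ ?_
      simp only [U, Finset.mem_biUnion, Finset.mem_image, Finset.mem_filter]
      refine ⟨⟨_, hiT⟩, Finset.mem_attach _ _, _, ⟨Finsupp.mem_support_iff.mpr h0, ?_⟩, rfl⟩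
      simp only [key, monKey, Prod.Lex.toLex_lt_toLex] at hj ⊢
      have hd : toLex d = toLex (d - d₀) + toLex d₀ := by
        rw [← toLex_add, tsub_add_cancel_of_le hd₀]
      have he' : toLex e = toLex (d - d₀) + toLex (e - (d - d₀)) := by
        rw [← toLex_add, add_tsub_cancel_of_le he]
      rcases hj with h | ⟨h, h'⟩
      · rw [hd, he'] at h
        exact Or.inl (lt_of_add_lt_add_left h)
      · rw [hd, he'] at h
        exact Or.inr ⟨add_left_cancel h, h'⟩
    · exact dvd_zero _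

end Groth.Agent.Lib.RigH7
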