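import Groth.Agent.Lib.RigH7.HomPoly
import Groth.Agent.Lib.RigH7.Complete
import Groth.Agent.Lib.RigH7.Base
import Groth.Agent.Lib.Compl.Noetherian

/-! The basic finiteness property of restricted power series over an admitted base ring and of
algebras of finite type over algebras topologically of finite type. -/

universe u v w
open MvPolynomial

namespace Groth.Agent.Lib.RigH7

theorem mem_jacobson_of_isAdicComplete {C : Type u} [CommRing C] (J : Ideal C) [IsAdicComplete J C]
    {x : C} (hx : x ∈ J) : x ∈ (⊥ : Ideal C).jacobson :=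
  IsAdicComplete.le_jacobson_bot J hx

variable {R : Type u} [CommRing R]

theorem valLike_quotient [IsDomain R] [PreValuationRing R] [Ring.KrullDimLE 1 R] {t : R} (ht : t ≠ 0)
    (htu : ¬ IsUnit t) : ValLike (R ⧸ Ideal.span {t}) := by
  have hne : Ideal.span {t} ≠ (⊤ : Ideal R) := by rwa [Ne, Ideal.span_singleton_eq_top]
  refine ⟨fun c hc => ?_, fun a b => ?_, Ideal.Quotient.nontrivial_iff.mpr hne⟩
  · obtain ⟨r, rfl⟩ := Ideal.Quotient.mk_surjective c
    have hr : ¬ IsUnit r := fun h => hc (h.map _)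
    obtain ⟨M, hM, hrM⟩ := exists_max_ideal_of_mem_nonunits hr
    suffices r ∈ (Ideal.span {t}).radical by
      obtain ⟨k, hk⟩ := this
      exact ⟨k, by rw [← map_pow, Ideal.Quotient.eq_zero_iff_mem]; exact hk⟩
    rw [Ideal.radical_eq_sInf, Ideal.mem_sInf]
    rintro q ⟨htq, hq⟩
    have hq0 : q ≠ ⊥ := fun h => ht (by simpa [h] using htq (Ideal.mem_span_singleton_self t))
    have hqM : q.IsMaximal := hq.isMaximal_of_ne_bot hq0
    by_contra hrq
    obtain ⟨v, i, hi, hvi⟩ := hqM.exists_inv hrq
    obtain ⟨c, h | h⟩ := PreValuationRing.cond r i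
    · refine hr (IsUnit.of_mul_eq_one (v + c) ?_)
      rw [mul_add, h, mul_comm r v, hvi]
    · exact hrq (h ▸ Ideal.mul_mem_right _ _ hi)
  · obtain ⟨a, rfl⟩ := Ideal.Quotient.mk_surjective a
    obtain ⟨b, rfl⟩ := Ideal.Quotient.mk_surjective b
    obtain ⟨c, h | h⟩ := PreValuationRing.cond a b
    · exact Or.inl ⟨Ideal.Quotient.mk _ c, by rw [← map_mul, h]⟩
    · exact Or.inr ⟨Ideal.Quotient.mk _ c, by rw [← map_mul, h]⟩

/-- `RPow R I n` is complete. -/
theorem isAdicComplete_rPow {I : Ideal R} (hI : I.FG) (n : ℕ) :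
    IsAdicComplete (I.map (algebraMap R (AdicRing.RPow R I n))) (AdicRing.RPow R I n) := by
  haveI := isAdicComplete_completion_of_fg (hI.map (MvPolynomial.C : R →+* MvPolynomial (Fin n) R))
  have h : I.map (algebraMap R (AdicRing.RPow R I n)) =
      (I.map (MvPolynomial.C : R →+* MvPolynomial (Fin n) R)).map
        (algebraMap (MvPolynomial (Fin n) R) (AdicRing.RPow R I n)) := by
    rw [Ideal.map_map]
    rfl
  rw [h]
  infer_instance

theorem isNoetherianRing_rPow {I : Ideal R} [IsNoetherianRing R] (n : ℕ) :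
    IsNoetherianRing (AdicRing.RPow R I n) :=
  Groth.Agent.Compl.isNoetherianRing_adicCompletion _ (Ideal.FG.map (IsNoetherian.noetherian I) _)

/-- The reduction `R⟨ζ⟩ → (R/t)[ζ]`. -/
theorem exists_reduction_rPow [IsDomain R] [PreValuationRing R] [Ring.KrullDimLE 1 R] {t : R}
    (ht : t ≠ 0) (htu : ¬ IsUnit t) (n : ℕ) :
    Nonempty (Reduction (algebraMap R (AdicRing.RPow R (Ideal.span {t}) n) t) (R ⧸ Ideal.span {t}) n) := by
  set J := (Ideal.span {t}).map (MvPolynomial.C : R →+* MvPolynomial (Fin n) R)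
  let p : MvPolynomial (Fin n) R →+* MvPolynomial (Fin n) (R ⧸ Ideal.span {t}) :=
    MvPolynomial.map (Ideal.Quotient.mk _)
  have hp : RingHom.ker p = J := by rw [MvPolynomial.ker_map, Ideal.mk_ker]
  let q := Ideal.Quotient.lift J p (fun x hx => by rwa [← hp] at hx)
  have hqinj : Function.Injective q := by
    rw [injective_iff_map_eq_zero]
    intro x hx
    obtain ⟨x, rfl⟩ := Ideal.Quotient.mk_surjective x
    rw [Ideal.Quotient.eq_zero_iff_mem, ← hp]
    exact hx
  have hqsurj : Function.Surjective q := fun y => by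
    obtain ⟨x, rfl⟩ := MvPolynomial.map_surjective _ Ideal.Quotient.mk_surjective y
    exact ⟨Ideal.Quotient.mk J x, rfl⟩
  have hlift : ∀ r : R, q (AdicCompletion.evalOneₐ J (algebraMap R (AdicRing.RPow R (Ideal.span {t}) n) r)) =
      MvPolynomial.C (Ideal.Quotient.mk _ r) := by
    intro r
    change q (AdicCompletion.evalOneₐ J (AdicCompletion.of J _ (algebraMap R (MvPolynomial (Fin n) R) r))) = _
    rw [AdicCompletion.evalOneₐ_of]
    exact MvPolynomial.map_C _ r
  refine ⟨{
    π := q.comp (AdicCompletion.evalOneₐ J).toRingHom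
    surj := hqsurj.comp (AdicCompletion.evalOneₐ_surjective J)
    ker_eq := ?_
    valLike := valLike_quotient ht htu
    lift := ?_ }⟩
  · rw [RingHom.ker_comp_of_injective _ hqinj]
    refine (AdicCompletion.ker_evalOneₐ_eq_map J (Ideal.FG.map (I := Ideal.span {t}) (Submodule.fg_span_singleton t) _)).trans ?_
    rw [Ideal.map_map, Ideal.map_span, Set.image_singleton]
    rfl
  · intro d hd
    obtain ⟨r, rfl⟩ := Ideal.Quotient.mk_surjective d
    obtain ⟨c, h | h⟩ := PreValuationRing.cond r t
    · exact ⟨algebraMap R _ r, algebraMap R _ c, hlift r, by rw [← map_mul, h]⟩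
    · exact absurd (Ideal.Quotient.eq_zero_iff_mem.mpr (h ▸ Ideal.mul_mem_right _ _
        (Ideal.mem_span_singleton_self t))) hd

/-- The alternative used in all arguments: either Noetherian, or principal with `FiniteSat`. -/
def Good (I : Ideal R) (C : Type v) [CommRing C] [Algebra R C] : Prop :=
  IsNoetherianRing C ∨ ∃ t : R, I = Ideal.span {t} ∧ FiniteSat (algebraMap R C t)

theorem Good.of_surjective {I : Ideal R} {C : Type v} [CommRing C] [Algebra R C] (h : Good I C)
    {C' : Type w} [CommRing C'] [Algebra R C'] (f : C →ₐ[R] C') (hf : Function.Surjective f) :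
    Good I C' := by
  rcases h with h | ⟨t, rfl, h⟩
  · exact Or.inl (isNoetherianRing_of_surjective C C' f.toRingHom hf)
  · refine Or.inr ⟨t, rfl, ?_⟩
    have := h.of_surjective f.toRingHom hf
    rwa [AlgHom.toRingHom_eq_coe, RingHom.coe_coe, f.commutes] at this

theorem not_isUnit_of_isAdicComplete [Nontrivial R] {t : R} [IsAdicComplete (Ideal.span {t}) R] :
    ¬ IsUnit t := fun h => by
  have h1 := Ideal.mem_jacobson_bot.mp
    (mem_jacobson_of_isAdicComplete _ (Ideal.mem_span_singleton_self t)) (-↑h.unit⁻¹ : R)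
  rw [mul_neg, IsUnit.mul_val_inv, neg_add_cancel] at h1
  exact not_isUnit_zero h1

/-- `R⟨ζ⟩` and polynomial rings over it are good. -/
theorem good_rPow {I : Ideal R} (hR : AdicRing.IsBase R I) (n : ℕ) :
    Good I (AdicRing.RPow R I n) ∧
      ∀ m, Good I (MvPolynomial (Fin m) (AdicRing.RPow R I n)) := by
  rcases hR.2 with ⟨hN, -⟩ | ⟨hD, hP, hK, t, ht, rfl⟩
  · haveI := hN
    haveI := isNoetherianRing_rPow (I := I) n
    exact ⟨Or.inl inferInstance, fun m => Or.inl inferInstance⟩
  · haveI := hR.1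
    haveI := hD; haveI := hP; haveI := hK
    obtain ⟨red⟩ := exists_reduction_rPow ht (not_isUnit_of_isAdicComplete (t := t)) n
    set C := AdicRing.RPow R (Ideal.span {t}) n
    haveI : IsAdicComplete (Ideal.span {algebraMap R C t}) C := by
      have h3 : ∀ (D : Type u) [CommRing D] (f : R →+* D),
          (Ideal.span {t}).map f = Ideal.span {f t} := fun D _ f => by
        rw [Ideal.map_span, Set.image_singleton]
      have h2 : (Ideal.span {t}).map (algebraMap R C) = Ideal.span {algebraMap R C t} := h3 C _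
      rw [← h2]
      exact isAdicComplete_rPow (Submodule.fg_span_singleton t) n
    refine ⟨Or.inr ⟨t, rfl, red.finiteSat⟩, fun m => Or.inr ⟨t, rfl, ?_⟩⟩
    rw [IsScalarTower.algebraMap_apply R C (MvPolynomial (Fin m) C) t, MvPolynomial.algebraMap_eq]
    exact red.finiteSat.mvPolynomial red
      (mem_jacobson_of_isAdicComplete _ (Ideal.mem_span_singleton_self _)) m

theorem good_topFiniteType {I : Ideal R} (hR : AdicRing.IsBase R I) {A : Type v} [CommRing A]
    [Algebra R A] (hA : AdicRing.TopFiniteType R I A) : Good I A := by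
  obtain ⟨n, φ, hφ⟩ := hA
  exact (good_rPow hR n).1.of_surjective φ hφ

theorem good_finiteType {I : Ideal R} (hR : AdicRing.IsBase R I) {A : Type v} [CommRing A]
    [Algebra R A] (hA : AdicRing.TopFiniteType R I A) {C : Type w} [CommRing C] [Algebra R C]
    [Algebra A C] [IsScalarTower R A C] [Algebra.FiniteType A C] : Good I C := by
  obtain ⟨n, φ, hφ⟩ := hA
  obtain ⟨m, f, hf⟩ := Algebra.FiniteType.iff_quotient_mvPolynomial''.mp ‹Algebra.FiniteType A C›
  let g : MvPolynomial (Fin m) (AdicRing.RPow R I n) →ₐ[R] C :=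
    (f.restrictScalars R).comp (MvPolynomial.mapAlgHom φ)
  refine ((good_rPow hR n).2 m).of_surjective g ?_
  exact hf.comp (MvPolynomial.map_surjective _ hφ)

end Groth.Agent.Lib.RigH7
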