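import Groth.Agent.Lib.RigH7.Poly

/-! Rings in which saturated submodules of finite free modules are finitely generated. -/

universe u v w

namespace Groth.Agent.Lib.RigH7

variable {C : Type u} [CommRing C]

/-- `t`-saturated submodules. -/
def IsSat (t : C) {M : Type v} [AddCommGroup M] [Module C M] (N : Submodule C M) : Prop :=
  ∀ x : M, t • x ∈ N → x ∈ N

theorem IsSat.pow {t : C} {M : Type v} [AddCommGroup M] [Module C M] {N : Submodule C M}
    (h : IsSat t N) : ∀ (k : ℕ) (x : M), t ^ k • x ∈ N → x ∈ N := by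
  intro k
  induction k with
  | zero => intro x hx; simpa using hx
  | succ k ih =>
    intro x hx
    rw [pow_succ, mul_smul] at hx
    exact h _ (ih _ hx)

/-- Every `t`-saturated submodule of a finite free module is finitely generated. -/
def FiniteSat (t : C) : Prop :=
  ∀ (s : ℕ) (N : Submodule C (Fin s → C)), IsSat t N → N.FG

theorem FiniteSat.of_noetherian [IsNoetherianRing C] (t : C) : FiniteSat t :=
  fun _ _ _ => IsNoetherian.noetherian _

theorem FiniteSat.fg {t : C} (h : FiniteSat t) {M : Type v} [AddCommGroup M] [Module C M]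
    [Module.Finite C M] {N : Submodule C M} (hN : IsSat t N) : N.FG := by
  obtain ⟨s, p, hp⟩ := Module.Finite.exists_fin' C M
  rw [← Submodule.map_comap_eq_of_surjective hp N]
  refine (h s _ fun x hx => ?_).map p
  rw [Submodule.mem_comap] at hx ⊢
  exact hN _ (by rwa [← map_smul])

theorem FiniteSat.of_surjective {t : C} (h : FiniteSat t) {C' : Type v} [CommRing C']
    (f : C →+* C') (hf : Function.Surjective f) : FiniteSat (f t) := by
  intro s N hN
  letI := f.toAlgebra
  haveI : Module.Finite C C' := Module.Finite.of_surjective (Algebra.linearMap C C') hf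
  refine Submodule.FG.of_restrictScalars C (h.fg (N := N.restrictScalars C) fun x hx => hN x ?_)
  rw [Submodule.restrictScalars_mem] at hx
  convert hx using 1
  exact algebraMap_smul C' t x

variable (t : C)

/-- The `t`-saturation of a submodule. -/
def satClosure {M : Type v} [AddCommGroup M] [Module C M] (N : Submodule C M) : Submodule C M where
  carrier := {x | ∃ k : ℕ, t ^ k • x ∈ N}
  add_mem' := by
    rintro x y ⟨a, ha⟩ ⟨b, hb⟩
    refine ⟨a + b, ?_⟩
    rw [smul_add]
    refine N.add_mem ?_ ?_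
    · rw [add_comm, pow_add, mul_smul]; exact N.smul_mem _ ha
    · rw [pow_add, mul_smul]; exact N.smul_mem _ hb
  zero_mem' := ⟨0, by simp⟩
  smul_mem' := by
    rintro c x ⟨a, ha⟩
    exact ⟨a, by rw [smul_comm]; exact N.smul_mem _ ha⟩

theorem isSat_satClosure {M : Type v} [AddCommGroup M] [Module C M] (N : Submodule C M) :
    IsSat t (satClosure t N) := by
  rintro x ⟨k, hk⟩
  exact ⟨k + 1, by rwa [pow_succ, mul_smul]⟩

theorem le_satClosure {M : Type v} [AddCommGroup M] [Module C M] (N : Submodule C M) :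
    N ≤ satClosure t N := fun x hx => ⟨0, by simpa using hx⟩

variable {t}

/-- The saturation is killed modulo the submodule by a uniform power of `t`. -/
theorem FiniteSat.exists_pow_satClosure (h : FiniteSat t) {M : Type v} [AddCommGroup M] [Module C M]
    [Module.Finite C M] (N : Submodule C M) :
    ∃ c : ℕ, ∀ x ∈ satClosure t N, t ^ c • x ∈ N := by
  classical
  obtain ⟨S, hS⟩ := h.fg (isSat_satClosure t N)
  have hmem : ∀ x ∈ S, ∃ k : ℕ, t ^ k • x ∈ N := fun x hx =>
    (hS ▸ Submodule.subset_span hx : x ∈ satClosure t N)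
  choose k hk using hmem
  refine ⟨S.attach.sup fun x => k x.1 x.2, fun x hx => ?_⟩
  rw [← hS] at hx
  induction hx using Submodule.span_induction with
  | mem x hx =>
    obtain ⟨j, hj⟩ := Nat.exists_eq_add_of_le
      (Finset.le_sup (f := fun x : {x // x ∈ S} => k x.1 x.2) (Finset.mem_attach S ⟨x, hx⟩))
    rw [hj, pow_add, mul_comm, mul_smul]
    exact N.smul_mem _ (hk x hx)
  | zero => simp
  | add x y _ _ hx hy => rw [smul_add]; exact N.add_mem hx hy
  | smul r x _ hx => rw [smul_comm]; exact N.smul_mem _ hx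

/-- Bounded `t`-power torsion. -/
theorem FiniteSat.exists_pow_torsion (h : FiniteSat t) (M : Type v) [AddCommGroup M] [Module C M]
    [Module.Finite C M] : ∃ c : ℕ, ∀ (x : M) (n : ℕ), t ^ n • x = 0 → t ^ c • x = 0 := by
  obtain ⟨c, hc⟩ := h.exists_pow_satClosure (⊥ : Submodule C M)
  exact ⟨c, fun x n hn => (Submodule.mem_bot C).mp (hc x ⟨n, (Submodule.mem_bot C).mpr hn⟩)⟩

/-- Artin–Rees for powers of `t`. -/
theorem FiniteSat.artinRees (h : FiniteSat t) {M : Type v} [AddCommGroup M] [Module C M]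
    [Module.Finite C M] (N : Submodule C M) :
    ∃ c : ℕ, ∀ (m : ℕ) (y : M), t ^ (m + c) • y ∈ N → ∃ n ∈ N, t ^ (m + c) • y = t ^ m • n := by
  obtain ⟨c, hc⟩ := h.exists_pow_satClosure N
  exact ⟨c, fun m y hy => ⟨t ^ c • y, hc y ⟨m + c, hy⟩, by rw [pow_add, mul_smul]⟩⟩

/-- Reduction modulo `t` to a polynomial ring over a `ValLike` ring gives finite generation modulo
`t`. -/
structure Reduction (t : C) (R₀ : Type w) [CommRing R₀] (n : ℕ) where
  π : C →+* MvPolynomial (Fin n) R₀
  surj : Function.Surjective π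
  ker_eq : RingHom.ker π = Ideal.span {t}
  valLike : ValLike R₀
  lift : ∀ d : R₀, d ≠ 0 → ∃ r r' : C, π r = MvPolynomial.C d ∧ r * r' = t

theorem Reduction.exists_fg_mod {R₀ : Type w} [CommRing R₀] {n : ℕ} (red : Reduction t R₀ n)
    {s : ℕ} {N : Submodule C (Fin s → C)} (hN : IsSat t N) :
    ∃ N₁ : Submodule C (Fin s → C), N₁.FG ∧ N₁ ≤ N ∧ ∀ x ∈ N, ∃ y ∈ N, x - t • y ∈ N₁ := by
  classical
  let p : (Fin s → C) → (Fin s → MvPolynomial (Fin n) R₀) := fun x i => red.π (x i)
  have hp_surj : Function.Surjective p := fun y =>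
    ⟨fun i => (red.surj (y i)).choose, funext fun i => (red.surj (y i)).choose_spec⟩
  have hp_smul : ∀ (c : C) x, p (c • x) = red.π c • p x := fun c x => funext fun i => map_mul _ _ _
  have hp_add : ∀ x y, p (x + y) = p x + p y := fun x y => funext fun i => map_add _ _ _
  have hp_sub : ∀ x y, p (x - y) = p x - p y := fun x y => funext fun i => map_sub _ _ _
  let N₀ : Submodule (MvPolynomial (Fin n) R₀) (Fin s → MvPolynomial (Fin n) R₀) :=
    { carrier := p '' N
      add_mem' := by
        rintro _ _ ⟨x, hx, rfl⟩ ⟨y, hy, rfl⟩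
        exact ⟨x + y, N.add_mem hx hy, hp_add x y⟩
      zero_mem' := ⟨0, N.zero_mem, funext fun i => map_zero _⟩
      smul_mem' := by
        rintro c _ ⟨x, hx, rfl⟩
        obtain ⟨c, rfl⟩ := red.surj c
        exact ⟨c • x, N.smul_mem c hx, hp_smul c x⟩ }
  have hker : ∀ x, p x = 0 → ∃ y, x = t • y := by
    intro x hx
    have : ∀ i, ∃ a, a * t = x i := fun i => Ideal.mem_span_singleton'.mp
      (red.ker_eq ▸ (RingHom.mem_ker.mpr (congr_fun hx i)) : x i ∈ Ideal.span {t})
    choose a ha using this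
    exact ⟨a, funext fun i => by rw [Pi.smul_apply, smul_eq_mul, mul_comm, ha]⟩
  have hfg : N₀.FG := by
    refine fg_submodule_mvPolynomial n s red.valLike N₀ fun d y hd hy => ?_
    by_cases hd0 : d = 0
    · exact ⟨0, N₀.zero_mem, by simp [hd0]⟩
    obtain ⟨r, r', hr, hrr⟩ := red.lift d hd0
    obtain ⟨y, rfl⟩ := hp_surj y
    obtain ⟨z, hz, hzy⟩ := hy
    have hdy : ∀ w, d • p w = p (r • w) := fun w => by
      rw [hp_smul, hr]
      exact funext fun i => MvPolynomial.smul_eq_C_mul _ _
    rw [hdy] at hzy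
    obtain ⟨u, hu⟩ := hker (r • y - z) (by rw [hp_sub, hzy, sub_self])
    have hmem : y - r' • u ∈ N := by
      refine hN _ ?_
      have : t • (y - r' • u) = r' • z := by
        rw [← hrr, mul_comm r r', mul_smul, smul_sub r, ← mul_smul r r', hrr, ← hu]
        simp
      rw [this]
      exact N.smul_mem _ hz
    refine ⟨p (y - r' • u), ⟨_, hmem, rfl⟩, ?_⟩
    rw [hdy, hdy, smul_sub, ← mul_smul, hrr, hp_sub, hp_smul t]
    have : red.π t = 0 := RingHom.mem_ker.mp (red.ker_eq ▸ Ideal.mem_span_singleton_self t)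
    rw [this, zero_smul, sub_zero]
  obtain ⟨S, hS⟩ := hfg
  have hpre : ∀ y ∈ S, ∃ x ∈ N, p x = y := fun y hy =>
    (hS ▸ Submodule.subset_span hy : y ∈ N₀)
  choose g hgN hgp using hpre
  let N₁ := Submodule.span C (Set.range fun y : {y // y ∈ S} => g y.1 y.2)
  have hle : N₁ ≤ N := Submodule.span_le.mpr (by rintro _ ⟨y, rfl⟩; exact hgN _ _)
  refine ⟨N₁, Submodule.fg_span (Set.finite_range _), hle, fun x hx => ?_⟩
  have h1 : ∀ w ∈ N₀, ∃ m ∈ N₁, p m = w := by
    intro w hw
    rw [← hS] at hw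
    induction hw using Submodule.span_induction with
    | mem w hw => exact ⟨_, Submodule.subset_span ⟨⟨w, hw⟩, rfl⟩, hgp w hw⟩
    | zero => exact ⟨0, zero_mem _, funext fun i => map_zero _⟩
    | add a b _ _ ha hb =>
      obtain ⟨ma, hma, rfl⟩ := ha
      obtain ⟨mb, hmb, rfl⟩ := hb
      exact ⟨ma + mb, add_mem hma hmb, hp_add _ _⟩
    | smul c a _ ha =>
      obtain ⟨ma, hma, rfl⟩ := ha
      obtain ⟨c, rfl⟩ := red.surj c
      exact ⟨c • ma, Submodule.smul_mem _ c hma, hp_smul _ _⟩
  obtain ⟨m, hm, hmx⟩ := h1 (p x) ⟨x, hx, rfl⟩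
  obtain ⟨y, hy⟩ := hker (x - m) (by rw [hp_sub, hmx, sub_self])
  refine ⟨y, hN _ (hy ▸ N.sub_mem hx (hle hm)), ?_⟩
  rw [← hy, sub_sub_cancel]
  exact hm

/-- In the complete case, reduction gives `FiniteSat`. -/
theorem Reduction.finiteSat {R₀ : Type w} [CommRing R₀] {n : ℕ} (red : Reduction t R₀ n)
    [IsAdicComplete (Ideal.span {t}) C] : FiniteSat t := by
  classical
  intro s N hN
  obtain ⟨N₁, hfg, hle, hstep⟩ := red.exists_fg_mod hN
  suffices N = N₁ by rw [this]; exact hfg
  refine le_antisymm ?_ hle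
  intro x hx
  obtain ⟨S, hS⟩ := hfg
  have hc : ∀ y : {y // y ∈ N}, ∃ (z : {y // y ∈ N}) (a : {g // g ∈ S} → C),
      (y : Fin s → C) = ∑ g, a g • (g : Fin s → C) + t • (z : Fin s → C) := by
    rintro ⟨y, hy⟩
    obtain ⟨z, hz, h⟩ := hstep y hy
    rw [← hS] at h
    obtain ⟨a, ha⟩ := Submodule.mem_span_finset'.mp h
    exact ⟨⟨z, hz⟩, a, by rw [ha]; abel⟩
  choose next co hco using hc
  let y : ℕ → {y // y ∈ N} := fun k => next^[k] ⟨x, hx⟩
  let A : {g // g ∈ S} → ℕ → C := fun g k => ∑ i ∈ Finset.range k, t ^ i * co (y i) g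
  have hA : ∀ k, x = ∑ g, A g k • (g : Fin s → C) + t ^ k • (y k : Fin s → C) := by
    intro k
    induction k with
    | zero => simp [A, y]
    | succ k ih =>
      have hy : y (k + 1) = next (y k) := Function.iterate_succ_apply' _ _ _
      conv_lhs => rw [ih, hco (y k)]
      simp only [A, Finset.sum_range_succ, add_smul, Finset.sum_add_distrib, smul_add,
        Finset.smul_sum, mul_smul, pow_succ, hy]
      abel
  have hlim : ∀ g, ∃ L : C, ∀ k, A g k ≡ L [SMOD ((Ideal.span {t}) ^ k • ⊤ : Submodule C C)] := by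
    intro g
    refine IsPrecomplete.prec' (A g) fun {a b} hab => ?_
    rw [SModEq.sub_mem, smul_eq_mul, Ideal.mul_top, Ideal.span_singleton_pow, ← neg_sub,
      neg_mem_iff, ← Finset.sum_Ico_eq_sub _ hab]
    refine Submodule.sum_mem _ fun i hi => Ideal.mem_span_singleton.mpr ?_
    exact Dvd.dvd.mul_right (pow_dvd_pow t (Finset.mem_Ico.mp hi).1) _
  choose L hL using hlim
  have hx' : x = ∑ g, L g • (g : Fin s → C) := by
    ext i
    rw [IsHausdorff.eq_iff_smodEq (I := Ideal.span {t})]
    intro k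
    rw [SModEq.sub_mem, smul_eq_mul, Ideal.mul_top]
    have h1 := congr_fun (hA k) i
    rw [h1]
    simp only [Finset.sum_apply, Pi.smul_apply, Pi.add_apply, smul_eq_mul]
    rw [add_sub_right_comm, ← Finset.sum_sub_distrib]
    refine add_mem (Submodule.sum_mem _ fun g _ => ?_) ?_
    · rw [← sub_mul]
      refine Ideal.mul_mem_right _ _ ?_
      have := SModEq.sub_mem.mp (hL g k)
      rwa [smul_eq_mul, Ideal.mul_top] at this
    · rw [Ideal.span_singleton_pow]
      exact Ideal.mul_mem_right _ _ (Ideal.mem_span_singleton_self _)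
  rw [hx', ← hS]
  exact Submodule.sum_mem _ fun g _ => Submodule.smul_mem _ _ (Submodule.subset_span g.2)

end Groth.Agent.Lib.RigH7
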