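import Mathlib

/-! A submodule of a free module over a local ring with nilpotent maximal ideal and chain-like
divisibility is spanned by elements whose reductions have all leading indices. -/

universe u v w x

namespace Groth.Agent.Lib.RigH7

/-- The conditions on a ring: it is local, all non-units are nilpotent and divisibility is total. -/
structure ValLike (R : Type u) [CommRing R] : Prop where
  nil : ∀ c : R, ¬ IsUnit c → IsNilpotent c
  dvd : ∀ a b : R, a ∣ b ∨ b ∣ a
  nontrivial : Nontrivial R

variable {R : Type u} [CommRing R]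

theorem ValLike.exists_dvd (hR : ValLike R) {ι : Type*} (s : Finset ι) (f : ι → R) (hs : s.Nonempty) :
    ∃ i ∈ s, ∀ j ∈ s, f i ∣ f j := by
  classical
  induction hs using Finset.Nonempty.cons_induction with
  | singleton a => exact ⟨a, by simp, by simp⟩
  | cons a s ha hs ih =>
    obtain ⟨i, hi, hdvd⟩ := ih
    rcases hR.dvd (f a) (f i) with h | h
    · refine ⟨a, Finset.mem_cons_self _ _, fun j hj => ?_⟩
      rcases Finset.mem_cons.mp hj with rfl | hj
      · exact dvd_rfl
      · exact h.trans (hdvd j hj)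
    · refine ⟨i, Finset.mem_cons.mpr (Or.inr hi), fun j hj => ?_⟩
      rcases Finset.mem_cons.mp hj with rfl | hj
      · exact h
      · exact hdvd j hj

/-- Non-units form an ideal: a sum of a unit and a non-unit is a unit. -/
theorem ValLike.not_isUnit_add (hR : ValLike R) {a b : R} (ha : ¬ IsUnit a) (hb : ¬ IsUnit b) :
    ¬ IsUnit (a + b) := by
  rcases hR.dvd a b with ⟨c, rfl⟩ | ⟨c, rfl⟩
  · intro h; exact ha (isUnit_of_dvd_unit ⟨1 + c, by ring⟩ h)
  · intro h; exact hb (isUnit_of_dvd_unit ⟨c + 1, by ring⟩ h)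

variable {F : Type v} [AddCommGroup F] [Module R F] {ι : Type w} (b : Module.Basis ι R F)
  {κ : Type x} [LinearOrder κ] (key : ι → κ)

/-- `i` is a leading index of `x` modulo `c`. -/
def IsLead (c : R) (x : F) (i : ι) : Prop :=
  b.repr x i = 1 ∧ ∀ j, key i < key j → c ∣ b.repr x j

/-- `i` is the top unit index of `x`. -/
def IsTop (x : F) (i : ι) : Prop :=
  IsUnit (b.repr x i) ∧ ∀ j, key i < key j → ¬ IsUnit (b.repr x j)

theorem exists_isTop [Nontrivial R] {x : F} {i : ι} (h : IsUnit (b.repr x i)) (hkey : Function.Injective key) :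
    ∃ i', IsTop b key x i' := by
  classical
  let s := (b.repr x).support.filter fun j => IsUnit (b.repr x j)
  have hne : s.Nonempty := ⟨i, Finset.mem_filter.mpr ⟨Finsupp.mem_support_iff.mpr h.ne_zero, h⟩⟩
  obtain ⟨i', hi', hmax⟩ := s.exists_max_image key hne
  refine ⟨i', (Finset.mem_filter.mp hi').2, fun j hj hu => ?_⟩
  exact (hmax j (Finset.mem_filter.mpr ⟨Finsupp.mem_support_iff.mpr hu.ne_zero, hu⟩)).not_gt hj

variable [WellFoundedLT κ] (hkey : Function.Injective key)

include hkey in
/-- The main lemma. -/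
theorem le_of_leads (hR : ValLike R) (N N' : Submodule R F) (hN' : N' ≤ N) (c : R) (hc : ¬ IsUnit c)
    (hsat : ∀ (d : R) (y : F), ¬ IsUnit d → d • y ∈ N → ∃ n ∈ N, d • y = d • n)
    (hlead : ∀ x ∈ N, ∀ i, IsTop b key x i → ∃ g ∈ N', IsLead b key c g i) :
    N ≤ N' := by
  classical
  haveI := hR.nontrivial
  let L : Set ι := {i | ∃ g ∈ N', IsLead b key c g i}
  let W : Submodule R F := N' ⊔ LinearMap.range (c • LinearMap.id : F →ₗ[R] F) ⊔
    Submodule.span R (b '' Lᶜ)
  have hW : ∀ k : κ, ∀ i, key i = k → b i ∈ W := by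
    intro k
    refine WellFoundedLT.induction (motive := fun k => ∀ i, key i = k → b i ∈ W) k (fun k ih => ?_)
    intro i hi
    by_cases hiL : i ∈ L
    · obtain ⟨g, hg, hg1, hg2⟩ := hiL
      have hgW : g ∈ W := Submodule.mem_sup_left (Submodule.mem_sup_left hg)
      have hsum := (b.linearCombination_repr g).symm
      rw [Finsupp.linearCombination_apply, Finsupp.sum] at hsum
      have hi_mem : i ∈ (b.repr g).support := Finsupp.mem_support_iff.mpr (by rw [hg1]; exact one_ne_zero)
      rw [← Finset.add_sum_erase _ _ hi_mem, hg1, one_smul] at hsum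
      have : b i = g - ∑ x ∈ (b.repr g).support.erase i, b.repr g x • b x := by
        rw [eq_sub_iff_add_eq, ← hsum]
      rw [this]
      refine W.sub_mem hgW (Submodule.sum_mem _ fun j hj => ?_)
      have hji : j ≠ i := (Finset.mem_erase.mp hj).1
      rcases lt_trichotomy (key j) (key i) with h | h | h
      · exact W.smul_mem _ (ih (key j) (hi ▸ h) j rfl)
      · exact absurd (hkey h) hji
      · obtain ⟨e, he⟩ := hg2 j h
        refine Submodule.mem_sup_left (Submodule.mem_sup_right ⟨e • b j, ?_⟩)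
        simp [he, mul_smul, smul_comm c e]
    · exact Submodule.mem_sup_right (Submodule.subset_span ⟨i, hiL, rfl⟩)
  have hWtop : W = ⊤ := by
    rw [eq_top_iff, ← b.span_eq, Submodule.span_le]
    rintro _ ⟨i, rfl⟩
    exact hW _ i rfl
  have hstep : ∀ x ∈ N, ∃ y ∈ N, x - c • y ∈ N' := by
    intro x hx
    obtain ⟨w, hw, r, hr, rfl⟩ := Submodule.mem_sup.mp (hWtop ▸ Submodule.mem_top : x ∈ W)
    obtain ⟨n, hn, _, ⟨y, rfl⟩, rfl⟩ := Submodule.mem_sup.mp hw
    simp only [LinearMap.smul_apply, LinearMap.id_coe, id_eq] at hx ⊢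
    suffices ∃ y', r = c • y' by
      obtain ⟨y', rfl⟩ := this
      have h1 : c • (y + y') ∈ N := by
        have := N.sub_mem hx (hN' hn)
        rwa [add_assoc, add_sub_cancel_left, ← smul_add] at this
      obtain ⟨n', hn', he⟩ := hsat c _ hc h1
      refine ⟨n', hn', ?_⟩
      rw [← he, smul_add, add_assoc, add_sub_cancel_right]
      exact hn
    have hsupp : ∀ j, b.repr r j ≠ 0 → j ∉ L := by
      intro j hj hjL
      exact (b.repr_support_subset_of_mem_span Lᶜ hr (Finsupp.mem_support_iff.mpr hj)) hjL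
    by_cases hr0 : r = 0
    · exact ⟨0, by simp [hr0]⟩
    obtain ⟨i₀, hi₀, hdvd⟩ := hR.exists_dvd (b.repr r).support (b.repr r)
      (Finsupp.support_nonempty_iff.mpr (by simpa using hr0))
    set d := b.repr r i₀
    have hd0 : d ≠ 0 := Finsupp.mem_support_iff.mp hi₀
    have hdall : ∀ j, d ∣ b.repr r j := fun j => by
      by_cases hj : j ∈ (b.repr r).support
      · exact hdvd j hj
      · rw [Finsupp.notMem_support_iff.mp hj]; exact dvd_zero _
    by_cases hcd : c ∣ d
    · have hj : ∀ j, c ∣ b.repr r j := fun j => hcd.trans (hdall j)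
      choose e he using hj
      refine ⟨∑ j ∈ (b.repr r).support, e j • b j, ?_⟩
      conv_lhs => rw [← b.linearCombination_repr r, Finsupp.linearCombination_apply, Finsupp.sum]
      rw [Finset.smul_sum]
      exact Finset.sum_congr rfl fun j _ => by rw [smul_smul, ← he]
    exfalso
    obtain ⟨c', hc'⟩ := (hR.dvd d c).resolve_right hcd
    have hc'u : ¬ IsUnit c' := fun hu => hcd ⟨(↑hu.unit⁻¹ : R), by rw [hc', mul_assoc, IsUnit.mul_val_inv, mul_one]⟩
    choose e he using hdall
    let r' : F := ∑ j ∈ (b.repr r).support, (if j = i₀ then 1 else e j) • b j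
    have hrr : d • r' = r := by
      conv_rhs => rw [← b.linearCombination_repr r, Finsupp.linearCombination_apply, Finsupp.sum]
      simp only [r', Finset.smul_sum, smul_smul]
      refine Finset.sum_congr rfl fun j _ => ?_
      split_ifs with h
      · subst h; rw [mul_one]
      · rw [← he]
    have hr' : ∀ j, b.repr r' j = if j ∈ (b.repr r).support then (if j = i₀ then 1 else e j) else 0 := by
      intro j
      simp only [r', map_sum, map_smul, b.repr_self, Finsupp.coe_finset_sum, Finset.sum_apply,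
        Finsupp.smul_apply, Finsupp.single_apply, smul_eq_mul, mul_ite, mul_one, mul_zero]
      rw [Finset.sum_ite_eq']
    have hdu : ¬ ∃ u, IsUnit u ∧ d * u = 0 := by
      rintro ⟨u, hu, h⟩
      exact hd0 ((IsUnit.mul_left_eq_zero hu).mp h)
    have h1 : d • (c' • y + r') ∈ N := by
      have := N.sub_mem hx (hN' hn)
      rwa [add_assoc, add_sub_cancel_left, hc', mul_smul, ← hrr, ← smul_add] at this
    obtain ⟨n', hn', hnd⟩ : ∃ n' ∈ N, d • (c' • y + r') = d • n' := by
      by_cases hdu' : IsUnit d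
      · exact ⟨_, (Submodule.smul_mem_iff_of_isUnit N hdu').mp h1, rfl⟩
      · exact hsat d _ hdu' h1
    have hunit : IsUnit (b.repr n' i₀) := by
      by_contra hnu
      have h3 := congr_arg (fun z => b.repr z i₀) hnd
      simp only [map_smul, map_add, Finsupp.smul_apply, Finsupp.add_apply, smul_eq_mul, hr',
        if_pos hi₀, if_true] at h3
      refine hdu ⟨c' * b.repr y i₀ + 1 - b.repr n' i₀, ?_, by rw [mul_sub, h3, sub_self]⟩
      by_contra hnu'
      have h4 := hR.not_isUnit_add (hR.not_isUnit_add hnu' hnu)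
        (fun h => hc'u (isUnit_of_mul_isUnit_left h) : ¬ IsUnit (c' * -(b.repr y i₀)))
      exact h4 (by convert isUnit_one using 1; ring)
    obtain ⟨i', hi'⟩ := exists_isTop b key hunit hkey
    obtain ⟨g, hg⟩ := hlead n' hn' i' hi'
    refine hsupp i' (fun h0 => ?_) ⟨g, hg⟩
    have h3 := congr_arg (fun z => b.repr z i') hnd
    have he' : b.repr r' i' = 0 := by
      rw [hr', if_neg]
      rwa [Finsupp.notMem_support_iff]
    simp only [map_smul, map_add, Finsupp.smul_apply, Finsupp.add_apply, smul_eq_mul, he',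
      add_zero] at h3
    refine hdu ⟨b.repr n' i' - c' * b.repr y i', ?_, by rw [mul_sub, h3, sub_self]⟩
    by_contra hnu'
    refine hR.not_isUnit_add hnu' (fun h => hc'u (isUnit_of_mul_isUnit_left h) :
      ¬ IsUnit (c' * b.repr y i')) ?_
    rw [sub_add_cancel]
    exact hi'.1
  intro x hx
  have hk : ∀ k : ℕ, ∀ x ∈ N, ∃ y ∈ N, x - c ^ k • y ∈ N' := by
    intro k
    induction k with
    | zero => exact fun x hx => ⟨x, hx, by simp⟩
    | succ k ih =>
      intro x hx
      obtain ⟨y, hy, h1⟩ := ih x hx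
      obtain ⟨z, hz, h2⟩ := hstep y hy
      refine ⟨z, hz, ?_⟩
      have : x - c ^ (k + 1) • z = (x - c ^ k • y) + c ^ k • (y - c • z) := by
        rw [pow_succ, mul_smul, smul_sub]; abel
      rw [this]
      exact N'.add_mem h1 (N'.smul_mem _ h2)
  obtain ⟨k, hk0⟩ := hR.nil c hc
  obtain ⟨y, -, h⟩ := hk k x hx
  simpa [hk0] using h

end Groth.Agent.Lib.RigH7
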