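import Groth.Agent.Lib.RigH7.Basic
import Mathlib.RingTheory.Flat.FaithfullyFlat.Algebra

/-! Flatness over algebras topologically of finite type is detected on the truncations, and the
complete localisations. -/

universe u v w

open TensorProduct

namespace Groth.Agent.Lib.RigH7

variable {R : Type u} [CommRing R] {I : Ideal R} {A : Type u} [CommRing A] [Algebra R A]

theorem isAdicComplete_map_of_topFiniteType (hR : AdicRing.IsBase R I)
    (hA : AdicRing.TopFiniteType R I A) : IsAdicComplete (I.map (algebraMap R A)) A := by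
  haveI := isAdicComplete_of_topFiniteType hR hA A
  exact (isAdicComplete_iff _ A).mpr
    ⟨(IsHausdorff.map_algebraMap_iff (S := A)).mpr inferInstance,
      (IsPrecomplete.map_algebraMap_iff (S := A)).mpr inferInstance⟩

theorem map_le_of_isMaximal (hR : AdicRing.IsBase R I) (hA : AdicRing.TopFiniteType R I A)
    (m : Ideal A) (hm : m.IsMaximal) : I.map (algebraMap R A) ≤ m := by
  haveI := isAdicComplete_map_of_topFiniteType hR hA
  exact (IsAdicComplete.le_jacobson_bot (I.map (algebraMap R A))).trans (sInf_le ⟨bot_le, hm⟩)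

/-- Flatness of `M` modulo an ideal gives injectivity of `M ⊗ N → M ⊗ N'` for modules over the
quotient. -/
theorem lTensor_injective_of_flat_baseChange {Q : Type u} [CommRing Q] [Algebra A Q]
    {M : Type u} [AddCommGroup M] [Module A M] [Module.Flat Q (Q ⊗[A] M)]
    {N N' : Type u} [AddCommGroup N] [AddCommGroup N'] [Module A N] [Module A N']
    [Module Q N] [Module Q N'] [IsScalarTower A Q N] [IsScalarTower A Q N']
    (f : N →ₗ[Q] N') (hf : Function.Injective f) :
    Function.Injective ((f.restrictScalars A).lTensor M) := by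
  let e := AlgebraTensorModule.cancelBaseChange A Q Q N M
  let e' := AlgebraTensorModule.cancelBaseChange A Q Q N' M
  have hinj : Function.Injective (f.rTensor (Q ⊗[A] M)) :=
    Module.Flat.rTensor_preserves_injective_linearMap f hf
  have hcomm : ∀ x, ((f.restrictScalars A).rTensor M) (e x) = e' (f.rTensor (Q ⊗[A] M) x) := by
    intro x
    induction x with
    | zero => simp
    | add x y hx hy => simp only [map_add, hx, hy]
    | tmul n z =>
      induction z with
      | zero => simp
      | add x y hx hy => simp only [tmul_add, map_add, hx, hy]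
      | tmul q m =>
        simp only [e, e', LinearMap.rTensor_tmul, AlgebraTensorModule.cancelBaseChange_tmul,
          LinearMap.restrictScalars_apply, map_smul]
  have h1 : Function.Injective ((f.restrictScalars A).rTensor M) := by
    intro x y h
    obtain ⟨x, rfl⟩ := e.surjective x
    obtain ⟨y, rfl⟩ := e.surjective y
    rw [hcomm, hcomm] at h
    exact congrArg e (hinj (e'.injective h))
  exact (LinearMap.lTensor_inj_iff_rTensor_inj M _).mpr h1

theorem finite_tensor {B : Type u} [CommRing B] [Algebra A B] {M : Type u} [AddCommGroup M]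
    [Module A M] [Module B M] [IsScalarTower A B M] [Module.Finite B M]
    (J : Type u) [AddCommGroup J] [Module A J] [Module.Finite A J] :
    Module.Finite B (M ⊗[A] J) := by
  classical
  obtain ⟨S, hS⟩ := (Module.Finite.fg_top : (⊤ : Submodule B M).FG)
  obtain ⟨T, hT⟩ := (Module.Finite.fg_top : (⊤ : Submodule A J).FG)
  suffices h : ∀ x : M ⊗[A] J, x ∈ Submodule.span B
      (↑((S ×ˢ T).image fun p => p.1 ⊗ₜ[A] p.2) : Set (M ⊗[A] J)) from
    ⟨⟨_, eq_top_iff.mpr fun x _ => h x⟩⟩
  intro x
  induction x with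
  | zero => exact zero_mem _
  | add x y hx hy => exact add_mem hx hy
  | tmul m j =>
    have hj : j ∈ Submodule.span A (T : Set J) := hT ▸ trivial
    induction hj using Submodule.span_induction generalizing m with
    | zero => rw [tmul_zero]; exact zero_mem _
    | add x y _ _ hx hy => rw [tmul_add]; exact add_mem (hx m) (hy m)
    | smul a x _ hx => rw [← TensorProduct.smul_tmul]; exact hx (a • m)
    | mem j hj =>
      have hm : m ∈ Submodule.span B (S : Set M) := hS ▸ trivial
      induction hm using Submodule.span_induction with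
      | zero => rw [zero_tmul]; exact zero_mem _
      | add x y _ _ hx hy => rw [add_tmul]; exact add_mem hx hy
      | smul b x _ hx => rw [← smul_tmul']; exact Submodule.smul_mem _ b hx
      | mem m hm =>
        exact Submodule.subset_span
          (Finset.mem_image.mpr ⟨(m, j), Finset.mem_product.mpr ⟨hm, hj⟩, rfl⟩)

theorem flat_of_forall_trunc (hR : AdicRing.IsBase R I) (hA : AdicRing.TopFiniteType R I A)
    {B : Type u} [CommRing B] [Algebra R B] [Algebra A B] [IsScalarTower R A B]
    (hB : AdicRing.TopFiniteType R I B)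
    {M : Type u} [AddCommGroup M] [Module B M] [Module A M] [IsScalarTower A B M] [Module.Finite B M]
    (h : ∀ n : ℕ, Module.Flat (AdicRing.trunc A I n) ((AdicRing.trunc A I n) ⊗[A] M)) :
    Module.Flat A M := by
  classical
  letI : Module R M := Module.compHom M (algebraMap R A)
  haveI : IsScalarTower R A M := IsScalarTower.of_algebraMap_smul fun r m => rfl
  haveI : IsScalarTower R B M := IsScalarTower.of_algebraMap_smul fun r m => by
    rw [IsScalarTower.algebraMap_apply R A B, algebraMap_smul]; rfl
  rw [Module.Flat.iff_lTensor_injective]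
  intro J hJ
  rw [injective_iff_map_eq_zero]
  intro x hx
  haveI : Module.Finite A J := Module.Finite.iff_fg.mpr hJ
  haveI := finite_tensor (A := A) (B := B) (M := M) (↥J)
  haveI : IsScalarTower R B (M ⊗[A] J) := TensorProduct.isScalarTower_left
  haveI := isAdicComplete_of_topFiniteType hR hB (M ⊗[A] J)
  rw [IsHausdorff.eq_iff_smodEq (I := I)]
  intro n
  rw [SModEq.zero]
  obtain ⟨n₀, hn₀⟩ := (good_topFiniteType hR hA).artinRees (M := A) J
  set k := n + n₀
  set K := (I ^ (k + 1)).map (algebraMap R A) with hK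
  have hKsmul : ∀ a ∈ K, a ∈ (I ^ (n + n₀) • ⊤ : Submodule R A) := by
    intro a ha
    rw [Ideal.smul_top_eq_map, Submodule.restrictScalars_mem]
    exact Ideal.map_mono (Ideal.pow_le_pow_right (Nat.le_succ _)) ha
  let Jb : Ideal (AdicRing.trunc A I k) := Ideal.map (Ideal.Quotient.mk K) J
  let q : J →ₗ[A] Jb :=
    { toFun := fun j => ⟨Ideal.Quotient.mk K j, Ideal.mem_map_of_mem _ j.2⟩
      map_add' := fun a b => Subtype.ext (map_add _ _ _)
      map_smul' := fun c a => Subtype.ext (by
        show Ideal.Quotient.mk K (c * a) = c • Ideal.Quotient.mk K (a : A)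
        rw [map_mul, Algebra.smul_def]; rfl) }
  have hqs : Function.Surjective q := by
    rintro ⟨y, hy⟩
    obtain ⟨j, hj, rfl⟩ :=
      (Ideal.mem_map_iff_of_surjective _ Ideal.Quotient.mk_surjective).mp hy
    exact ⟨⟨j, hj⟩, rfl⟩
  haveI := h k
  have hinj := lTensor_injective_of_flat_baseChange (A := A) (M := M) (Q := AdicRing.trunc A I k) (Jb.subtype : Jb →ₗ[AdicRing.trunc A I k] _)
    Subtype.val_injective
  have h0 : q.lTensor M x = 0 := by
    refine hinj ?_
    rw [map_zero]
    have hcomp : (Jb.subtype.restrictScalars A) ∘ₗ q =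
        (Ideal.Quotient.mkₐ A K).toLinearMap ∘ₗ (J.subtype) := LinearMap.ext fun j => rfl
    calc (Jb.subtype.restrictScalars A).lTensor M (q.lTensor M x)
        = ((Jb.subtype.restrictScalars A) ∘ₗ q).lTensor M x := by
          rw [LinearMap.lTensor_comp]; rfl
      _ = 0 := by
          rw [hcomp, LinearMap.lTensor_comp, LinearMap.comp_apply, hx, map_zero]
  have hex : Function.Exact ((LinearMap.ker q).subtype.lTensor M) (q.lTensor M) :=
    lTensor_exact M (LinearMap.exact_subtype_ker_map q) hqs
  obtain ⟨z, rfl⟩ := (hex x).mp h0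
  clear hx h0
  induction z with
  | zero => simp
  | add a b ha hb => rw [map_add]; exact add_mem ha hb
  | tmul m j =>
    obtain ⟨⟨j, hjJ⟩, hj⟩ := j
    have hjK : j ∈ K := Ideal.Quotient.eq_zero_iff_mem.mp (congrArg Subtype.val hj)
    have hj2 : j ∈ I ^ n • J.restrictScalars R := hn₀ n ⟨hKsmul j hjK, hjJ⟩
    rw [LinearMap.lTensor_tmul]
    show m ⊗ₜ[A] (⟨j, hjJ⟩ : J) ∈ _
    refine Submodule.smul_induction_on' hj2 (p := fun j hj => ∀ hjJ : j ∈ J,
      m ⊗ₜ[A] (⟨j, hjJ⟩ : J) ∈ (I ^ n • ⊤ : Submodule R (M ⊗[A] J))) ?_ ?_ hjJ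
    · intro r hr j' hj' hjJ
      have : (⟨r • j', hjJ⟩ : J) = algebraMap R A r • (⟨j', hj'⟩ : J) :=
        Subtype.ext (algebraMap_smul A r j').symm
      rw [this, ← TensorProduct.smul_tmul, algebraMap_smul, ← TensorProduct.smul_tmul']
      exact Submodule.smul_mem_smul hr Submodule.mem_top
    · intro a ha b hb iha ihb hab
      have haJ : a ∈ J := (Submodule.smul_le_right : I ^ n • J.restrictScalars R ≤ _) ha
      have hbJ : b ∈ J := (Submodule.smul_le_right : I ^ n • J.restrictScalars R ≤ _) hb
      have : (⟨a + b, hab⟩ : J) = ⟨a, haJ⟩ + ⟨b, hbJ⟩ := rfl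
      rw [this, tmul_add]
      exact add_mem (iha haJ) (ihb hbJ)

theorem faithfullyFlat_of_trunc_zero (hR : AdicRing.IsBase R I) (hA : AdicRing.TopFiniteType R I A)
    {M : Type u} [AddCommGroup M] [Module A M] [Module.Flat A M]
    (h : Module.FaithfullyFlat (AdicRing.trunc A I 0) ((AdicRing.trunc A I 0) ⊗[A] M)) :
    Module.FaithfullyFlat A M := by
  rw [Module.FaithfullyFlat.iff_flat_and_ideal_smul_eq_top]
  refine ⟨inferInstance, fun J hJ => ?_⟩
  by_contra hne
  obtain ⟨m, hm, hle⟩ := Ideal.exists_le_maximal J hne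
  have hKm : (I ^ (0 + 1)).map (algebraMap R A) ≤ m := by
    rw [zero_add, pow_one]; exact map_le_of_isMaximal hR hA m hm
  let mb : Ideal (AdicRing.trunc A I 0) := m.map (Ideal.Quotient.mk _)
  have htop : mb • (⊤ : Submodule (AdicRing.trunc A I 0) ((AdicRing.trunc A I 0) ⊗[A] M)) = ⊤ := by
    suffices h' : ∀ z, z ∈ mb • (⊤ : Submodule (AdicRing.trunc A I 0) ((AdicRing.trunc A I 0) ⊗[A] M)) from
      eq_top_iff.mpr fun z _ => h' z
    intro z
    induction z with
    | zero => exact zero_mem _
    | add x y hx hy => exact add_mem hx hy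
    | tmul a x =>
      have hx : x ∈ m • (⊤ : Submodule A M) :=
        Submodule.smul_mono_left hle (by rw [hJ]; trivial)
      induction hx using Submodule.smul_induction_on' with
      | smul c hc y _ =>
        rw [tmul_smul, ← algebraMap_smul (AdicRing.trunc A I 0) c]
        exact Submodule.smul_mem_smul (Ideal.mem_map_of_mem _ hc) Submodule.mem_top
      | add x _ y _ hx hy => rw [tmul_add]; exact add_mem hx hy
  have := (Module.FaithfullyFlat.iff_flat_and_ideal_smul_eq_top _ _).mp h |>.2 mb htop
  refine hm.ne_top ?_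
  have h2 := congrArg (Ideal.comap (Ideal.Quotient.mk ((I ^ (0 + 1)).map (algebraMap R A)))) this
  rwa [Ideal.comap_map_of_surjective _ Ideal.Quotient.mk_surjective, ← RingHom.ker_eq_comap_bot,
    Ideal.mk_ker, sup_eq_left.mpr hKm, Ideal.comap_top] at h2

theorem flat_cLoc (hR : AdicRing.IsBase R I) (hA : AdicRing.TopFiniteType R I A) (f : A) :
    Module.Flat A (AdicRing.CLoc I f) := by
  haveI : Algebra.FiniteType A (Localization.Away f) := by
    haveI := IsLocalization.Away.finitePresentation f (S := Localization.Away f)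
    infer_instance
  haveI := (good_finiteType hR hA (C := Localization.Away f)).flat_completion
  exact Module.Flat.trans A (Localization.Away f) (AdicRing.CLoc I f)

theorem flat_pi {ι : Type*} [Fintype ι] [DecidableEq ι] {N : ι → Type u} [∀ i, AddCommGroup (N i)]
    [∀ i, Module A (N i)] [∀ i, Module.Flat A (N i)] : Module.Flat A (∀ i, N i) :=
  Module.Flat.of_linearEquiv (DirectSum.linearEquivFunOnFintype A ι N).symm

theorem faithfullyFlat_pi_cLoc (hR : AdicRing.IsBase R I) (hA : AdicRing.TopFiniteType R I A)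
    {r : ℕ} (f : Fin r → A) (hf : Ideal.span (Set.range f) = ⊤) :
    Module.FaithfullyFlat A (∀ i, AdicRing.CLoc I (f i)) := by
  classical
  haveI := fun i => flat_cLoc hR hA (f i)
  haveI := flat_pi (A := A) (N := fun i => AdicRing.CLoc I (f i))
  rw [Module.FaithfullyFlat.iff_flat_and_ideal_smul_eq_top]
  refine ⟨inferInstance, fun J hJ => ?_⟩
  by_contra hne
  obtain ⟨m, hm, hle⟩ := Ideal.exists_le_maximal J hne
  obtain ⟨i, hi⟩ : ∃ i, f i ∉ m := by
    by_contra hh
    push Not at hh
    exact hm.ne_top (top_le_iff.mp (hf.symm.le.trans (Ideal.span_le.mpr (by rintro _ ⟨i, rfl⟩; exact hh i))))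
  letI := Ideal.Quotient.field m
  have hbot : I.map (algebraMap R (A ⧸ m)) = ⊥ := by
    rw [IsScalarTower.algebraMap_eq R A (A ⧸ m), ← Ideal.map_map, eq_bot_iff,
      Ideal.map_le_iff_le_comap]
    exact (map_le_of_isMaximal hR hA m hm).trans (fun x hx => Ideal.mem_comap.mpr
      ((Submodule.mem_bot _).mpr (Ideal.Quotient.eq_zero_iff_mem.mpr hx)))
  haveI : IsAdicComplete (I.map (algebraMap R (A ⧸ m))) (A ⧸ m) := by rw [hbot]; infer_instance
  have hu : IsUnit (algebraMap A (A ⧸ m) (f i)) :=
    (IsUnit.mk0 _ fun e => hi (Ideal.Quotient.eq_zero_iff_mem.mp e))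
  let g : Localization.Away (f i) →+* A ⧸ m := IsLocalization.Away.lift (f i) hu
  have hgA : ∀ a, g (algebraMap A _ a) = algebraMap A (A ⧸ m) a :=
    fun a => IsLocalization.Away.lift_eq (f i) hu a
  let g' : Localization.Away (f i) →ₐ[R] A ⧸ m := AlgHom.mk g (by
    intro r
    change g (algebraMap R _ r) = _
    rw [IsScalarTower.algebraMap_apply R A (Localization.Away (f i)), hgA,
      ← IsScalarTower.algebraMap_apply])
  obtain ⟨G, hG⟩ : ∃ G : AdicRing.CLoc I (f i) →ₐ[R] A ⧸ m,
      ∀ c, G (algebraMap (Localization.Away (f i)) _ c) = g' c := exists_lift g'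
  have hGA : ∀ a : A, G (algebraMap A (AdicRing.CLoc I (f i)) a) = algebraMap A (A ⧸ m) a := fun a => by
    rw [IsScalarTower.algebraMap_apply A (Localization.Away (f i)) (AdicRing.CLoc I (f i)), hG]
    exact hgA a
  have h0 : ∀ z ∈ m • (⊤ : Submodule A (∀ i, AdicRing.CLoc I (f i))), G (z i) = 0 := by
    intro z hz
    induction hz using Submodule.smul_induction_on' with
    | smul a ha y _ =>
      rw [Pi.smul_apply, Algebra.smul_def, map_mul, hGA, Ideal.Quotient.algebraMap_eq,
        Ideal.Quotient.eq_zero_iff_mem.mpr ha, zero_mul]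
    | add x _ y _ hx hy => rw [Pi.add_apply, map_add, hx, hy, add_zero]
  have := h0 1 (Submodule.smul_mono_left hle (by rw [hJ]; trivial))
  rw [Pi.one_apply, map_one] at this
  exact one_ne_zero this

end Groth.Agent.Lib.RigH7
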